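import Cfsg.Agent.Lib.FFModules.Kieler
import Cfsg.Agent.Lib.Cores.GenFitting
import Cfsg.Agent.Lib.CoprimeAction.Basic
import Cfsg.Agent.Lib.Subnormal.Basic

/-!
`p`-groups acting on subnormal subgroups of the generalised Fitting subgroup of a group with
trivial `O_p`.
-/

set_option autoImplicit false

namespace CfsgLib.FFModules

open Subgroup
open scoped commutatorElement Pointwise

variable {G : Type*} [Group G] [Finite G] {p : ℕ} [hp : Fact p.Prime]

omit hp in
/-- A subnormal subgroup of `F*` is generated by components and a piece of the Fitting subgroup. -/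
theorem le_components_sup_fitting {S : Subgroup G} (hS : S.IsSubnormal)
    (hle : S ≤ Cfsg.generalizedFittingSubgroup G) :
    S ≤ sSup {K : Subgroup G | Cfsg.IsComponent K ∧ K ≤ S} ⊔ (S ⊓ Cfsg.fittingSubgroup G) := by
  set F := Cfsg.fittingSubgroup G with hF
  set E₁ := sSup {K : Subgroup G | Cfsg.IsComponent K ∧ K ≤ S} with hE₁
  set E₂ := sSup {K : Subgroup G | Cfsg.IsComponent K ∧ ¬ K ≤ S} with hE₂
  have hFn : F.Normal := (inferInstance : (Cfsg.fittingSubgroup G).Normal)
  have hEF : ∀ K : Subgroup G, Cfsg.IsComponent K → K ≤ centralizer (F : Set G) := fun K hK =>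
    (CfsgLib.Cores.le_layer hK).trans (commutator_eq_bot_iff_le_centralizer.1
      CfsgLib.Cores.commutator_layer_fittingSubgroup)
  have hlay : Cfsg.layer G ≤ E₁ ⊔ E₂ := CfsgLib.Cores.layer_le_iff.2 fun K hK => by
    by_cases h : K ≤ S
    · exact le_sup_of_le_left (le_sSup ⟨hK, h⟩)
    · exact le_sup_of_le_right (le_sSup ⟨hK, h⟩)
  have hE₁S : E₁ ≤ S := sSup_le fun K hK => hK.2
  have h2S : E₂ ≤ centralizer (S : Set G) :=
    sSup_le fun K hK => CfsgLib.Cores.le_centralizer_of_not_le hK.1 hS hK.2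
  have h12 : E₁ ⊔ F ≤ centralizer (E₂ : Set G) :=
    sup_le (le_centralizer_comm (h2S.trans (centralizer_le (SetLike.coe_subset_coe.2 hE₁S))))
      (le_centralizer_comm (sSup_le fun K hK => hEF K hK.1))
  have hF₁ : F ≤ normalizer ((E₁ : Subgroup G) : Set G) :=
    (le_centralizer_comm (sSup_le fun K hK => hEF K hK.1)).trans (centralizer_le_normalizer _)
  intro x hx
  have hx' : x ∈ (E₁ ⊔ F) ⊔ E₂ := by
    refine (sup_le ?_ ?_ : Cfsg.layer G ⊔ F ≤ (E₁ ⊔ F) ⊔ E₂) (hle hx)
    · exact hlay.trans (sup_le (le_sup_left.trans le_sup_left) le_sup_right)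
    · exact le_sup_right.trans le_sup_left
  have hx'' : x ∈ ((E₁ ⊔ F : Subgroup G) : Set G) * (E₂ : Set G) := by
    rw [← coe_mul_of_left_le_normalizer_right _ E₂ (h12.trans (centralizer_le_normalizer _))]
    exact hx'
  obtain ⟨a, ha, b, hb, hab⟩ := Set.mem_mul.1 hx''
  have hb2 : b ∈ centralizer (E₂ : Set G) := by
    have h1 : x ∈ centralizer (E₂ : Set G) := le_centralizer_comm h2S hx
    have := mul_mem (inv_mem (h12 ha)) h1
    rw [← hab] at this
    simpa using this
  have hbF : b ∈ F := by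
    have hb3 : b ∈ centralizer (Cfsg.generalizedFittingSubgroup G : Set G) := by
      have hb1 : E₁ ⊔ F ⊔ E₂ ≤ centralizer ({b} : Set G) := by
        refine sup_le (fun y hy z hz => ?_) (fun y hy z hz => ?_)
        · rw [Set.mem_singleton_iff.1 hz]; exact h12 hy b hb
        · rw [Set.mem_singleton_iff.1 hz]; exact (hb2 y hy).symm
      intro y hy
      refine ((hb1 ((sup_le ?_ ?_ : Cfsg.layer G ⊔ F ≤ (E₁ ⊔ F) ⊔ E₂) hy)) b rfl).symm
      · exact hlay.trans (sup_le (le_sup_left.trans le_sup_left) le_sup_right)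
      · exact le_sup_right.trans le_sup_left
    rw [CfsgLib.Cores.centralizer_generalizedFittingSubgroup_eq] at hb3
    exact map_subtype_le _ hb3
  have hxEF : x ∈ (E₁ : Set G) * (F : Set G) := by
    rw [← coe_mul_of_right_le_normalizer_left E₁ F hF₁, ← hab]
    exact mul_mem ha (mem_sup_right hbF)
  obtain ⟨e, he, f, hf, rfl⟩ := Set.mem_mul.1 hxEF
  refine mul_mem (mem_sup_left he) (mem_sup_right ⟨?_, hf⟩)
  simpa using mul_mem (inv_mem (hE₁S he)) hx

/-- With `O_p = 1`, a subgroup of the Fitting subgroup has order prime to `p`. -/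
theorem coprime_card_of_le_fitting (hO : Cfsg.pCore p G = ⊥) {S : Subgroup G}
    (hS : S ≤ Cfsg.fittingSubgroup G) : (Nat.card S).Coprime p := by
  refine ((Nat.Prime.coprime_iff_not_dvd hp.out).2 fun hd => ?_).symm
  obtain ⟨x, hx⟩ := exists_prime_orderOf_dvd_card' p hd
  have hxF : (x : G) ∈ Cfsg.fittingSubgroup G := hS x.2
  have hnil : Group.IsNilpotent (Cfsg.fittingSubgroup G) := CfsgLib.Cores.isNilpotent_fittingSubgroup
  have hZ : (zpowers (x : G)).IsSubnormal :=
    IsSubnormal.trans (zpowers_le.2 hxF) (CfsgLib.Subnormal.isSubnormal_of_isNilpotent _)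
      (inferInstance : (Cfsg.fittingSubgroup G).Normal).isSubnormal
  have hp' : IsPGroup p (zpowers (x : G)) := by
    refine IsPGroup.of_card (n := 1) ?_
    rw [Nat.card_zpowers, Subgroup.orderOf_coe, hx, pow_one]
  have h := le_pCore_of_isSubnormal hZ hp'
  rw [hO, le_bot_iff, zpowers_eq_bot] at h
  have : orderOf x = 1 := by rw [← Subgroup.orderOf_coe, h, orderOf_one]
  exact hp.out.ne_one (hx.symm.trans this)

/-- `p`-elements centralising `F*` are trivial when `O_p = 1`. -/
theorem eq_bot_of_le_centralizer_fstar (hO : Cfsg.pCore p G = ⊥) {Y : Subgroup G} (hY : IsPGroup p Y)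
    (h : Y ≤ centralizer (Cfsg.generalizedFittingSubgroup G : Set G)) : Y = ⊥ := by
  have hle : Y ≤ Cfsg.fittingSubgroup G := by
    rw [CfsgLib.Cores.centralizer_generalizedFittingSubgroup_eq] at h
    exact h.trans (map_subtype_le _)
  rw [eq_bot_iff]
  intro y hy
  refine mem_bot.2 (eq_one_of_coprime_of_mem hY hy ?_)
  exact Nat.Coprime.coprime_dvd_left (Subgroup.orderOf_dvd_natCard _ (hle hy))
    (coprime_card_of_le_fitting hO le_rfl)

/-- A `p`-group `Y` acting on a subnormal subgroup `L` of `F*(H)`, `O_p(H) = 1`: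
`L = [L, Y] C_L(Y)` as a product. -/
theorem fstar_coprime_action {H Y L : Subgroup G} (hO : Cfsg.pCore p H = ⊥) (hY : IsPGroup p Y)
    (hYH : Y ≤ normalizer (H : Set G))
    (hLF : L ≤ (Cfsg.generalizedFittingSubgroup H).map H.subtype)
    (hLsn : (L.subgroupOf H).IsSubnormal) (hYL : Y ≤ normalizer (L : Set G)) :
    L ≤ ⁅L, Y⁆ ⊔ (L ⊓ centralizer (Y : Set G)) := by
  set N := ⁅L, Y⁆ with hN
  set S := L.subgroupOf H with hS
  have hLH : L ≤ H := hLF.trans (map_subtype_le _)
  have hNL : N ≤ L := CfsgLib.CoprimeAction.commutator_le_left hYL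
  have hSF : S ≤ Cfsg.generalizedFittingSubgroup H := fun x hx => by
    obtain ⟨y, hy, hyx⟩ := hLF hx
    exact H.subtype_injective hyx ▸ hy
  have hdec := map_mono (f := H.subtype) (le_components_sup_fitting hLsn hSF)
  rw [hS, map_subgroupOf_eq_of_le hLH, Subgroup.map_sup] at hdec
  refine hdec.trans (sup_le ?_ ?_)
  · -- the components
    rw [Subgroup.map_le_iff_le_comap]
    refine sSup_le fun K hK => ?_
    rw [← Subgroup.map_le_iff_le_comap]
    obtain ⟨hKc, hKS⟩ := hK
    have hKL : K.map H.subtype ≤ L := by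
      rw [← map_subgroupOf_eq_of_le hLH]; exact map_mono hKS
    by_cases hKN : K.map H.subtype ≤ N
    · exact hKN.trans le_sup_left
    refine le_sup_of_le_right (le_inf hKL ?_)
    -- `K` centralises `N`
    have hNsn : (N.subgroupOf H).IsSubnormal :=
      IsSubnormal.step _ S (comap_mono hNL) hLsn (normal_subgroupOf_of_le_normalizer (by
        intro x hx
        have h1 := (le_sup_left.trans (CfsgLib.CoprimeAction.sup_le_normalizer_commutator Y L)) hx
        rw [Subgroup.mem_normalizer_iff] at h1 ⊢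
        exact fun z => h1 z))
    have hKN' : K ≤ centralizer ((N.subgroupOf H : Subgroup H) : Set H) := by
      refine CfsgLib.Cores.le_centralizer_of_not_le hKc hNsn fun h => hKN ?_
      exact (map_mono h).trans (map_subgroupOf_eq_of_le (hNL.trans hLH)).le
    have hcen : ∀ n ∈ N, ∀ k : H, k ∈ K → Commute n (k : G) := fun n hn k hk =>
      congrArg Subtype.val (hKN' hk ⟨n, hLH (hNL hn)⟩ hn)
    have hperf := CfsgLib.Cores.commutator_self_eq_of_isComponent hKc
    -- `Y` normalises `K`
    have hYK : ∀ y ∈ Y, ∀ k : H, k ∈ K → ∃ k' : H, k' ∈ K ∧ (k' : G) = y * k * y⁻¹ := by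
      intro y hy k hk
      set φ : H ≃* H := H.normalizerMonoidHom ⟨y, hYH hy⟩ with hφ
      have hK' := CfsgLib.Cores.isComponent_map_equiv hKc φ
      by_cases heq : K.map φ.toMonoidHom = K
      · exact ⟨φ k, heq ▸ mem_map_of_mem φ.toMonoidHom hk, rfl⟩
      exfalso
      have hcomm := CfsgLib.Cores.le_centralizer_of_isComponent_ne hKc hK' (fun h => heq h.symm)
      have hab : ⁅K, K⁆ = ⊥ := by
        rw [commutator_eq_bot_iff_le_centralizer]
        intro a ha b hb
        have h1 : ⁅(a : G), y⁆ ∈ N :=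
          commutator_mem_commutator (hKL (mem_map_of_mem H.subtype ha)) hy
        have h2 : Commute (φ a⁻¹) b := hcomm hb _ (mem_map_of_mem φ.toMonoidHom (inv_mem ha))
        have h3 : Commute (⁅(a : G), y⁆) (b : G) := hcen _ h1 b hb
        have h4 : Commute ((φ a⁻¹ : H) : G) (b : G) := congrArg Subtype.val h2.eq
        have e : ⁅(a : G), y⁆ * ((φ a⁻¹ : H) : G)⁻¹ = (a : G) := by
          show ⁅(a : G), y⁆ * (y * ((a⁻¹ : H) : G) * y⁻¹)⁻¹ = (a : G)
          rw [Subgroup.coe_inv, commutatorElement_def]; group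
        have h5 := h3.mul_left h4.inv_left
        rw [e] at h5
        exact Subtype.ext h5.symm.eq
      exact CfsgLib.Cores.ne_bot_of_isComponent hKc (hperf.symm.trans hab)
    -- `[K, Y] ≤ C(K)`, so `[K, Y] = 1` by perfectness
    set K' := K.map H.subtype with hK'def
    have hKY : ⁅K', Y⁆ ≤ centralizer (K' : Set G) := by
      rw [commutator_le]
      rintro _ ⟨a, ha, rfl⟩ y hy _ ⟨b, hb, rfl⟩
      exact (hcen _ (commutator_mem_commutator (hKL (mem_map_of_mem H.subtype ha)) hy) b hb).symm.eq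
    have h1 : ⁅⁅K', Y⁆, K'⁆ = ⊥ := commutator_eq_bot_iff_le_centralizer.2 hKY
    have h2 : ⁅⁅Y, K'⁆, K'⁆ = ⊥ := by rw [commutator_comm Y K']; exact h1
    have h3 := commutator_commutator_eq_bot_of_rotate h1 h2
    rw [show ⁅K', K'⁆ = K' by rw [hK'def, ← map_commutator, hperf]] at h3
    exact commutator_eq_bot_iff_le_centralizer.1 h3
  · -- the Fitting part
    set F := (S ⊓ Cfsg.fittingSubgroup H).map H.subtype with hF
    have hYF : Y ≤ normalizer (F : Set G) := by
      have e : F = L ⊓ (Cfsg.fittingSubgroup H).map H.subtype := by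
        rw [hF, map_inf _ _ _ H.subtype_injective, hS, map_subgroupOf_eq_of_le hLH]
      rw [e]
      exact le_normalizer_inf_of hYL
        (hYH.trans (CfsgLib.Cores.normalizer_le_normalizer_map_subtype H _))
    have hcard : Nat.card F = Nat.card ↥(S ⊓ Cfsg.fittingSubgroup H) :=
      (Nat.card_congr (equivMapOfInjective _ _ H.subtype_injective).toEquiv).symm
    obtain ⟨n, hn⟩ := IsPGroup.iff_card.1 hY
    have hcop : (Nat.card Y).Coprime (Nat.card F) := by
      rw [hn, hcard]
      exact Nat.Coprime.pow_left n (coprime_card_of_le_fitting hO inf_le_right).symm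
    have : Group.IsNilpotent Y := hY.isNilpotent
    have h := CfsgLib.CoprimeAction.commutator_sup_centralizer hYF hcop (Or.inl inferInstance)
    have hFL : F ≤ L := by
      rw [hF, ← map_subgroupOf_eq_of_le hLH]; exact map_mono inf_le_left
    rw [← h]
    exact sup_le_sup (commutator_mono hFL le_rfl) (inf_le_inf_right _ hFL)

/-- `[L, Y, Y] = [L, Y]` in the situation of `fstar_coprime_action`. -/
theorem fstar_commutator_commutator {H Y L : Subgroup G} (hO : Cfsg.pCore p H = ⊥) (hY : IsPGroup p Y)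
    (hYH : Y ≤ normalizer (H : Set G))
    (hLF : L ≤ (Cfsg.generalizedFittingSubgroup H).map H.subtype)
    (hLsn : (L.subgroupOf H).IsSubnormal) (hYL : Y ≤ normalizer (L : Set G)) :
    ⁅L, Y⁆ = ⁅⁅L, Y⁆, Y⁆ := by
  refine le_antisymm (commutator_le.2 fun l hl y hy => ?_)
    (commutator_mono (CfsgLib.CoprimeAction.commutator_le_left hYL) le_rfl)
  have hn := le_sup_left.trans (CfsgLib.CoprimeAction.sup_le_normalizer_commutator Y L)
  have hl' : l ∈ ((⁅L, Y⁆ : Subgroup G) : Set G) * ((L ⊓ centralizer (Y : Set G) : Subgroup G) : Set G) := by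
    rw [← coe_mul_of_right_le_normalizer_left _ _ (inf_le_left.trans hn)]
    exact fstar_coprime_action hO hY hYH hLF hLsn hYL hl
  obtain ⟨a, ha, c, hc, rfl⟩ := Set.mem_mul.1 hl'
  have e : ⁅a * c, y⁆ = ⁅a, y⁆ := by
    have : c * y * c⁻¹ = y := by rw [(hc.2 y hy).symm, mul_inv_cancel_right]
    simp only [commutatorElement_def, mul_inv_rev]
    calc a * c * y * (c⁻¹ * a⁻¹) * y⁻¹ = a * (c * y * c⁻¹) * a⁻¹ * y⁻¹ := by group
      _ = a * y * a⁻¹ * y⁻¹ := by rw [this]
  rw [e]
  exact commutator_mem_commutator ha hy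

/-- `O_p` of the whole group, seen as a subgroup. -/
theorem pCore_top_eq_bot (hO : Cfsg.pCore p G = ⊥) : Cfsg.pCore p (⊤ : Subgroup G) = ⊥ := by
  have h := pCoreOf_top (G := G) (p := p)
  rw [hO, Cfsg.pCoreOf, Subgroup.map_eq_bot_iff, ker_subtype] at h
  exact le_bot_iff.1 h

omit [Finite G] hp in
theorem map_fstar_top :
    (Cfsg.generalizedFittingSubgroup (⊤ : Subgroup G)).map (⊤ : Subgroup G).subtype =
      Cfsg.generalizedFittingSubgroup G :=
  CfsgLib.Cores.map_generalizedFittingSubgroup_equiv (topEquiv : (⊤ : Subgroup G) ≃* G)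

/-- The whole-group form of `fstar_coprime_action`. -/
theorem fstar_action_top (hO : Cfsg.pCore p G = ⊥) {Y L : Subgroup G} (hY : IsPGroup p Y)
    (hLF : L ≤ Cfsg.generalizedFittingSubgroup G) (hLsn : L.IsSubnormal)
    (hYL : Y ≤ normalizer (L : Set G)) :
    L ≤ ⁅L, Y⁆ ⊔ (L ⊓ centralizer (Y : Set G)) ∧ ⁅L, Y⁆ = ⁅⁅L, Y⁆, Y⁆ :=
  ⟨fstar_coprime_action (H := ⊤) (pCore_top_eq_bot hO) hY (le_top.trans le_normalizer)
      (hLF.trans (map_fstar_top (G := G)).ge) hLsn.subgroupOf hYL,
    fstar_commutator_commutator (H := ⊤) (pCore_top_eq_bot hO) hY (le_top.trans le_normalizer)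
      (hLF.trans (map_fstar_top (G := G)).ge) hLsn.subgroupOf hYL⟩

omit hp in
/-- `F*(K) = F*(G) ∩ K` for subnormal `K`. -/
theorem map_fstar_of_isSubnormal {K : Subgroup G} (hK : K.IsSubnormal) :
    (Cfsg.generalizedFittingSubgroup K).map K.subtype = Cfsg.generalizedFittingSubgroup G ⊓ K := by
  refine le_antisymm (le_inf ?_ (map_subtype_le _)) ?_
  · rw [Cfsg.generalizedFittingSubgroup, Subgroup.map_sup]
    exact sup_le_sup (CfsgLib.Cores.map_subtype_layer_le hK)
      (CfsgLib.Cores.map_subtype_fittingSubgroup_le hK)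
  · set F := Cfsg.generalizedFittingSubgroup G with hF
    have hFK : (F ⊓ K).IsSubnormal :=
      IsSubnormal.inf (inferInstance : (Cfsg.generalizedFittingSubgroup G).Normal).isSubnormal hK
    refine (le_components_sup_fitting hFK inf_le_left).trans (sup_le (sSup_le fun C hC => ?_) ?_)
    · obtain ⟨hC1, hC2⟩ := hC
      rw [← map_subgroupOf_eq_of_le (hC2.trans inf_le_right)]
      exact map_mono ((CfsgLib.Cores.le_layer
        (CfsgLib.Cores.isComponent_subgroupOf hC1 (hC2.trans inf_le_right))).trans le_sup_left)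
    · refine le_trans ?_ (map_mono (le_sup_right : Cfsg.fittingSubgroup K ≤ _))
      rw [CfsgLib.Cores.map_subtype_fittingSubgroup_eq hK]
      exact le_inf inf_le_right (inf_le_left.trans inf_le_right)

end CfsgLib.FFModules
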