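import Cfsg.Agent.Lib.FFModules.Kieler
import Cfsg.Agent.Lib.Subnormal.Join
import Mathlib.GroupTheory.Transfer

/-!
A Sylow `p`-subgroup meets the join of two subnormal subgroups in the join of its intersections
with the two subgroups.
-/

set_option autoImplicit false

namespace CfsgLib.FFModules

open Subgroup
open scoped Pointwise

universe u

theorem coprime_relIndex_map {G G' : Type*} [Group G] [Group G'] [Finite G] {p : ℕ}
    (f : G →* G') {H K : Subgroup G} (hHK : H ≤ K) (h : (H.relIndex K).Coprime p) :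
    ((H.map f).relIndex (K.map f)).Coprime p := by
  have e : (H.subgroupOf K).map (f.subgroupMap K) = (H.map f).subgroupOf (K.map f) := by
    ext ⟨y, hy⟩
    constructor
    · rintro ⟨⟨x, hx⟩, hxH, hxy⟩
      exact ⟨x, hxH, congrArg Subtype.val hxy⟩
    · rintro ⟨x, hx, hxy⟩
      exact ⟨⟨x, hHK hx⟩, hx, Subtype.ext hxy⟩
  refine Nat.Coprime.coprime_dvd_left ?_ h
  show ((H.map f).subgroupOf (K.map f)).index ∣ (H.subgroupOf K).index
  rw [← e]
  exact index_map_dvd _ (f.subgroupMap_surjective K)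

section

variable {G : Type u} [Group G] [Finite G] {p : ℕ} [hp : Fact p.Prime]

/-- Transfer: a central `p`-subgroup of a group generated by `p'`-elements has no complement in a
Sylow `p`-subgroup. -/
theorem eq_bot_of_central_complement {T X N : Subgroup G}
    (hi : (T.relIndex ⊤).Coprime p) (hG : Cfsg.pResidual p G = ⊤) (hT : IsPGroup p T)
    (hN : N ≤ center G) (hNT : N ≤ T) (hXT : X ≤ T) (hTX : T ≤ X ⊔ N) (hNX : N ⊓ X = ⊥) :
    N = ⊥ := by
  have hn : T ≤ normalizer (X : Set G) := hTX.trans (sup_le le_normalizer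
    (hN.trans (center_le_normalizer _)))
  have : (X.subgroupOf T).Normal := normal_subgroupOf_of_le_normalizer hn
  have hrep : ∀ a : T ⧸ X.subgroupOf T, ∃ n : G, ∃ hn : n ∈ N,
      a = QuotientGroup.mk' _ ⟨n, hNT hn⟩ := by
    intro a
    obtain ⟨⟨t, ht⟩, rfl⟩ := QuotientGroup.mk'_surjective _ a
    have ht' : t ∈ (N : Set G) * (X : Set G) := by
      rw [← coe_mul_of_left_le_normalizer_right N X (hN.trans (center_le_normalizer _))]
      rw [sup_comm]; exact hTX ht
    obtain ⟨n, hn', x, hx, rfl⟩ := Set.mem_mul.1 ht'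
    refine ⟨n, hn', (QuotientGroup.mk'_eq_mk' _).2 ⟨⟨x⁻¹, inv_mem (hXT hx)⟩, ?_, ?_⟩⟩
    · exact inv_mem hx
    · exact Subtype.ext (by simp)
  let _ : CommGroup (T ⧸ X.subgroupOf T) := { (inferInstance : Group (T ⧸ X.subgroupOf T)) with
    mul_comm := fun a b => by
      obtain ⟨n, hn', rfl⟩ := hrep a
      obtain ⟨m, hm, rfl⟩ := hrep b
      rw [← map_mul, ← map_mul]
      exact congrArg _ (Subtype.ext ((mem_center_iff.1 (hN hn') m).symm)) }
  let φ : T →* T ⧸ X.subgroupOf T := QuotientGroup.mk' _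
  let V := MonoidHom.transfer φ
  have hV : V.ker = ⊤ := by
    rw [eq_top_iff, ← hG, pResidual_le_iff]
    intro x hx
    obtain ⟨k, hk⟩ := (hT.to_quotient (X.subgroupOf T)) (V x)
    exact eq_one_of_pow_eq_one_of_coprime (n := orderOf x) hk hx
      (by rw [← map_pow, pow_orderOf_eq_one, map_one])
  refine (eq_bot_iff_forall _).2 fun n hn' => ?_
  have key : ∀ (k : ℕ) (g₀ : G), g₀⁻¹ * n ^ k * g₀ ∈ T → g₀⁻¹ * n ^ k * g₀ = n ^ k := by
    intro k g₀ _
    rw [mul_assoc, ← mem_center_iff.1 (hN (pow_mem hn' k)) g₀, inv_mul_cancel_left]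
  have h1 : V n = 1 := by
    rw [← MonoidHom.mem_ker, hV]; exact mem_top n
  rw [MonoidHom.transfer_eq_pow φ n key] at h1
  have h1' : (⟨n ^ T.index, MonoidHom.transfer_eq_pow_aux n key⟩ : T) ∈ X.subgroupOf T :=
    (QuotientGroup.eq_one_iff _).1 h1
  have h2 : n ^ T.index ∈ N ⊓ X := ⟨pow_mem hn' _, h1'⟩
  rw [hNX, mem_bot] at h2
  obtain ⟨k, hk⟩ := exists_pPow_eq_one hT (hNT hn')
  rw [relIndex_top_right] at hi
  exact eq_one_of_pow_eq_one_of_coprime hk hi h2

end

/-- The statement proved by induction: a Sylow `p`-subgroup of a group generated by two subnormal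
subgroups is generated by its intersections with them. -/
def JoinSylow (p : ℕ) (G : Type u) [Group G] : Prop :=
  ∀ T : Subgroup G, IsPGroup p T → (T.relIndex ⊤).Coprime p → ∀ A B : Subgroup G,
    A.IsSubnormal → B.IsSubnormal → A ⊔ B = ⊤ → T ≤ (A ⊓ T) ⊔ (B ⊓ T)

section

variable {G : Type u} [Group G] [Finite G] {p : ℕ} [hp : Fact p.Prime]

theorem inf_sup_le_of_joinSylow {T A B : Subgroup G} (hT : IsPGroup p T)
    (hi : (T.relIndex ⊤).Coprime p) (hA : A.IsSubnormal) (hB : B.IsSubnormal)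
    (h : JoinSylow p ↥(A ⊔ B)) : (A ⊔ B) ⊓ T ≤ (A ⊓ T) ⊔ (B ⊓ T) := by
  set J := A ⊔ B with hJ
  have hTJ : IsPGroup p ((T ⊓ J).subgroupOf J) :=
    (isPGroup_subgroupOf inf_le_right).2 (hT.to_le inf_le_left)
  have hiJ : (((T ⊓ J).subgroupOf J).relIndex ⊤).Coprime p := by
    rw [relIndex_top_right]
    exact coprime_relIndex_inf_of_isSubnormal hi (CfsgLib.Subnormal.isSubnormal_sup hA hB)
  have hAB : A.subgroupOf J ⊔ B.subgroupOf J = ⊤ := by
    rw [← subgroupOf_sup le_sup_left le_sup_right, subgroupOf_self]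
  have h' := h _ hTJ hiJ _ _ hA.subgroupOf hB.subgroupOf hAB
  intro x hx
  have hx' := mem_map_of_mem J.subtype (h' (show (⟨x, hx.1⟩ : J) ∈ (T ⊓ J).subgroupOf J from
    ⟨hx.2, hx.1⟩))
  rw [Subgroup.map_sup] at hx'
  have hle : ∀ C : Subgroup G, (C.subgroupOf J ⊓ (T ⊓ J).subgroupOf J).map J.subtype ≤ C ⊓ T := by
    rintro C _ ⟨y, hy, rfl⟩
    exact ⟨hy.1, hy.2.1⟩
  exact (sup_le_sup (hle A) (hle B) : _ ≤ (A ⊓ T) ⊔ (B ⊓ T)) hx'

/-- Reduction to `O^p(B)`. -/
theorem le_of_residual_lt {T A B : Subgroup G}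
    (hi : (T.relIndex ⊤).Coprime p) (hA : A.IsSubnormal) (hB : B.IsSubnormal) (hAB : A ⊔ B = ⊤)
    (hQ : ∀ C D : Subgroup G, C.IsSubnormal → D.IsSubnormal → C ⊔ D ≠ ⊤ →
      (C ⊔ D) ⊓ T ≤ (C ⊓ T) ⊔ (D ⊓ T))
    (ih : A ⊔ (Cfsg.pResidual p B).map B.subtype = ⊤ →
      T ≤ (A ⊓ T) ⊔ ((Cfsg.pResidual p B).map B.subtype ⊓ T)) :
    T ≤ (A ⊓ T) ⊔ (B ⊓ T) := by
  classical
  set B₀ := (Cfsg.pResidual p B).map B.subtype with hB₀
  have hle : B₀ ≤ B := pResidualMap_le B
  have hn : B ≤ normalizer (B₀ : Set G) :=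
    le_normalizer.trans (pResidualMap_le_normalizer B)
  have hB₀s : B₀.IsSubnormal :=
    IsSubnormal.step _ B hle hB (normal_subgroupOf_of_le_normalizer hn)
  set X := (A ⊓ T) ⊔ (B ⊓ T) with hX
  set K := A ⊔ B₀ with hK
  by_cases hKt : K = ⊤
  · exact (ih hKt).trans (sup_le_sup le_rfl (inf_le_inf_right _ hle))
  have hKs : K.IsSubnormal := CfsgLib.Subnormal.isSubnormal_sup hA hB₀s
  have hKX : K ⊓ T ≤ X :=
    (hQ A B₀ hA hB₀s hKt).trans (sup_le_sup le_rfl (inf_le_inf_right _ hle))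
  set S₀ := B ⊓ T with hS₀
  have hBR : B ≤ B₀ ⊔ S₀ := le_sup_of_coprime_relIndex hle inf_le_left hn
    (by rw [hS₀, inf_comm]; exact coprime_relIndex_inf_of_isSubnormal hi hB)
    (fun x hx => exists_pPow_mem_pResidualMap hx)
  have hgen : K ⊔ S₀ = ⊤ := by
    rw [eq_top_iff, ← hAB]
    exact sup_le (le_sup_left.trans le_sup_left) (hBR.trans (sup_le_sup le_sup_right le_rfl))
  let _ := Fintype.ofFinite S₀
  let f : S₀ → Subgroup G := fun s => K.map (MulAut.conj (s : G)).toMonoidHom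
  set K' := Finset.univ.sup f with hK'
  have hf : ∀ s, f s ≤ K' := fun s => Finset.le_sup (Finset.mem_univ s)
  have hKK' : K ≤ K' := (map_conj_one K).symm.le.trans (hf 1)
  have hSn : S₀ ≤ normalizer (K' : Set G) := by
    refine le_normalizer_of_conj_le fun t ht => ?_
    rw [hK', Finset.sup_eq_iSup, Subgroup.map_iSup]
    refine iSup_le fun s => ?_
    rw [Subgroup.map_iSup]
    refine iSup_le fun _ => ?_
    show (K.map _).map _ ≤ _
    rw [← map_conj_mul]
    exact le_iSup₂_of_le (⟨t, ht⟩ * s) (Finset.mem_univ _) le_rfl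
  have hK'n : K'.Normal := normalizer_eq_top_iff.1
    (top_le_iff.1 (hgen ▸ sup_le (hKK'.trans le_normalizer) hSn))
  have hK't : K' ≠ ⊤ := by
    obtain h | ⟨M, hMn, hKM, hMt⟩ := hKs.lt_normal
    · exact absurd h hKt
    refine ne_top_of_le_ne_top hMt.ne (Finset.sup_le fun s _ => ?_)
    refine (map_mono hKM).trans (le_of_eq ?_)
    exact map_conj_eq_self (by rw [normalizer_eq_top_iff.2 hMn]; exact mem_top _)
  have hF : ∀ F : Finset S₀, F.sup f ⊓ T ≤ X := by
    intro F
    induction F using Finset.induction_on with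
    | empty => simp
    | insert s F _ ihF =>
      rw [Finset.sup_insert]
      refine (hQ _ _ (CfsgLib.Subnormal.isSubnormal_map_conj hKs _)
        (CfsgLib.Subnormal.isSubnormal_finsetSup F f fun i _ =>
          CfsgLib.Subnormal.isSubnormal_map_conj hKs _)
        (ne_top_of_le_ne_top hK't (sup_le (hf s) (Finset.sup_mono (Finset.subset_univ F))))).trans
        (sup_le ?_ ihF)
      have hsT : (s : G) ∈ T := s.2.2
      have e : K.map (MulAut.conj (s : G)).toMonoidHom ⊓ T =
          (K ⊓ T).map (MulAut.conj (s : G)).toMonoidHom := by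
        rw [map_inf _ _ _ (MulAut.conj (s : G)).injective, map_conj_eq_self (le_normalizer hsT)]
      show K.map _ ⊓ T ≤ X
      rw [e]
      refine (map_mono hKX).trans (map_conj_eq_self (le_normalizer ?_)).le
      exact mem_sup_right (S := A ⊓ T) s.2
  intro x hx
  have hx' : x ∈ (S₀ : Set G) * (K' : Set G) := by
    rw [← coe_mul_of_left_le_normalizer_right S₀ K' hSn]
    have : S₀ ⊔ K' = ⊤ := top_le_iff.1 (hgen ▸ sup_le (hKK'.trans le_sup_right) le_sup_left)
    rw [this]; exact mem_top x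
  obtain ⟨s, hs, k, hk, rfl⟩ := Set.mem_mul.1 hx'
  have hsX : s ∈ X := mem_sup_right hs
  refine mul_mem hsX (hF _ ⟨hk, ?_⟩)
  simpa using mul_mem (Subgroup.inv_mem _ (hs : s ∈ B ⊓ T).2) hx

/-- The case of two `p`-perfect subgroups. -/
theorem le_of_residual_eq {T A B : Subgroup G} (hT : IsPGroup p T)
    (hi : (T.relIndex ⊤).Coprime p) (hA : A.IsSubnormal) (hB : B.IsSubnormal) (hAB : A ⊔ B = ⊤)
    (hQ : ∀ C D : Subgroup G, C.IsSubnormal → D.IsSubnormal → C ⊔ D ≠ ⊤ →
      (C ⊔ D) ⊓ T ≤ (C ⊓ T) ⊔ (D ⊓ T))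
    (hind : ∀ (H : Type u) [Group H] [Finite H], Nat.card H < Nat.card G → JoinSylow p H)
    (hAp : (Cfsg.pResidual p A).map A.subtype = A) (hBp : (Cfsg.pResidual p B).map B.subtype = B) :
    T ≤ (A ⊓ T) ⊔ (B ⊓ T) := by
  rcases subsingleton_or_nontrivial G with h | h
  · exact fun x _ => Subsingleton.elim (1 : G) x ▸ one_mem _
  obtain ⟨N, ⟨hNn, hNne⟩, hNmin⟩ := exists_minimal_of_wellFoundedLT
    (fun N : Subgroup G => N.Normal ∧ N ≠ ⊥) ⟨⊤, inferInstance, top_ne_bot⟩
  have hmin : ∀ L : Subgroup G, L.Normal → L ≤ N → L = ⊥ ∨ L = N := fun L hL hle =>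
    or_iff_not_imp_left.2 fun hne => le_antisymm hle (hNmin ⟨hL, hne⟩ hle)
  have hNA := CfsgLib.Subnormal.le_normalizer_of_minimal_normal hA hmin
  have hNB := CfsgLib.Subnormal.le_normalizer_of_minimal_normal hB hmin
  set X := (A ⊓ T) ⊔ (B ⊓ T) with hX
  by_cases hNt : N = ⊤
  · subst hNt
    have hAn : A.Normal := normalizer_eq_top_iff.1 (top_le_iff.1 hNA)
    have hBn : B.Normal := normalizer_eq_top_iff.1 (top_le_iff.1 hNB)
    rcases hmin A hAn le_top with rfl | rfl
    · rw [bot_sup_eq] at hAB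
      subst hAB
      exact (top_inf_eq T).symm.le.trans le_sup_right
    · exact (top_inf_eq T).symm.le.trans le_sup_left
  -- the quotient
  set f := QuotientGroup.mk' N with hf
  have hlt : Nat.card (G ⧸ N) < Nat.card G := by
    have h1 : Nat.card G = Nat.card (G ⧸ N) * Nat.card N := Subgroup.card_eq_card_quotient_mul_card_subgroup N
    have h2 : 1 < Nat.card N := N.one_lt_card_iff_ne_bot.2 hNne
    calc Nat.card (G ⧸ N) < Nat.card (G ⧸ N) * Nat.card N :=
          lt_mul_of_one_lt_right Nat.card_pos h2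
      _ = Nat.card G := h1.symm
  have hfs : Function.Surjective f := QuotientGroup.mk'_surjective N
  have hiT : ((T.map f).relIndex ⊤).Coprime p := by
    rw [← map_top_of_surjective f hfs]
    exact coprime_relIndex_map f le_top hi
  have hq := hind (G ⧸ N) hlt _ (hT.map f) hiT _ _ (hA.map hfs) (hB.map hfs)
    (by rw [← Subgroup.map_sup, hAB, map_top_of_surjective f hfs])
  have hinf : ∀ C : Subgroup G, C.IsSubnormal → C.map f ⊓ T.map f ≤ (C ⊓ T).map f := fun C hC =>
    le_of_isPGroup_of_coprime_relIndex (map_inf_le _ _ _) ((hT.map f).to_le inf_le_right)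
      (coprime_relIndex_of_le (map_inf_le _ _ _) inf_le_left (coprime_relIndex_map f inf_le_left
        (by rw [inf_comm]; exact coprime_relIndex_inf_of_isSubnormal hi hC)))
  have hTXN : T ≤ X ⊔ N := by
    have h1 : T.map f ≤ X.map f :=
      hq.trans ((sup_le_sup (hinf A hA) (hinf B hB)).trans (Subgroup.map_sup _ _ f).symm.le)
    have h2 := Subgroup.map_le_iff_le_comap.1 h1
    rwa [comap_map_eq, hf, QuotientGroup.ker_mk'] at h2
  have hXT : X ≤ T := sup_le inf_le_right inf_le_right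
  set M := (A ⊓ N) ⊔ (B ⊓ N) with hM
  have hMN : M ≤ N := sup_le inf_le_right inf_le_right
  have hcomm : ∀ C : Subgroup G, N ≤ normalizer (C : Set G) → C ⊓ N ≤ M →
      C ≤ normalizer (M : Set G) := by
    intro C hC hCM
    refine le_normalizer_of_conj_le fun c hc => ?_
    rintro _ ⟨m, hm, rfl⟩
    have h1 : c * m * c⁻¹ * m⁻¹ ∈ C ⊓ N := by
      refine ⟨?_, mul_mem (hNn.conj_mem m (hMN hm) c) (Subgroup.inv_mem _ (hMN hm))⟩
      have := mul_mem hc ((Subgroup.mem_normalizer_iff.1 (hC (hMN hm)) c⁻¹).1 (Subgroup.inv_mem _ hc))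
      simpa [mul_assoc] using this
    have := mul_mem (hCM h1) hm
    simpa [mul_assoc] using this
  have hMn : M.Normal := normalizer_eq_top_iff.1 (top_le_iff.1
    (hAB ▸ sup_le (hcomm A hNA le_sup_left) (hcomm B hNB le_sup_right)))
  have hgoal : N ⊓ T ≤ X → T ≤ X := by
    intro hh x hx
    have hx' : x ∈ (X : Set G) * (N : Set G) := by
      rw [← coe_mul_of_left_le_normalizer_right X N]
      · exact hTXN hx
      · rw [normalizer_eq_top_iff.2 hNn]; exact le_top
    obtain ⟨y, hy, n, hn, rfl⟩ := Set.mem_mul.1 hx'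
    refine mul_mem hy (hh ⟨hn, ?_⟩)
    simpa using mul_mem (Subgroup.inv_mem _ (hXT hy)) hx
  refine hgoal ?_
  rcases hmin M hMn hMN with hMb | hMe
  swap
  · have := hQ (A ⊓ N) (B ⊓ N) (hA.inf hNn.isSubnormal) (hB.inf hNn.isSubnormal)
      (by rw [← hM, hMe]; exact hNt)
    rw [← hM, hMe] at this
    exact this.trans (sup_le_sup (inf_le_inf_right _ inf_le_left) (inf_le_inf_right _ inf_le_left))
  -- now `N` is central
  have hcent : ∀ C : Subgroup G, N ≤ normalizer (C : Set G) → C ⊓ N ≤ M →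
      C ≤ centralizer (N : Set G) := by
    intro C hC hCM c hc n hn
    have h1 : c * n * c⁻¹ * n⁻¹ ∈ C ⊓ N := by
      refine ⟨?_, mul_mem (hNn.conj_mem n hn c) (Subgroup.inv_mem _ hn)⟩
      have := mul_mem hc ((Subgroup.mem_normalizer_iff.1 (hC hn) c⁻¹).1 (Subgroup.inv_mem _ hc))
      simpa [mul_assoc] using this
    have h2 := hCM h1
    rw [hMb, mem_bot] at h2
    exact (commutatorElement_eq_one_iff_mul_comm.1 (by rw [commutatorElement_def]; exact h2)).symm
  have hNc : N ≤ center G := fun n hn => mem_center_iff.2 fun g =>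
    (((hAB ▸ sup_le (hcent A hNA le_sup_left) (hcent B hNB le_sup_right) :
      (⊤ : Subgroup G) ≤ centralizer (N : Set G)) (mem_top g)) n hn).symm
  by_contra hne
  have hnorm : ∀ L : Subgroup G, L ≤ N → L.Normal := fun L hL => ⟨fun l hl g => by
    rw [mem_center_iff.1 (hNc (hL hl)) g, mul_inv_cancel_right]; exact hl⟩
  have hNT : N ≤ T := by
    rcases hmin (N ⊓ T) (hnorm _ inf_le_left) inf_le_left with h | h
    · exact absurd (h.le.trans bot_le) hne
    · exact inf_eq_left.1 h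
  have hNX : N ⊓ X = ⊥ := by
    rcases hmin (N ⊓ X) (hnorm _ inf_le_left) inf_le_left with h | h
    · exact h
    · exact absurd (inf_le_left.trans (inf_eq_left.1 h)) hne
  refine hNne (eq_bot_of_central_complement hi ?_ hT hNc hNT hXT hTXN hNX)
  rw [eq_top_iff, ← hAB, ← pResidualMap_top]
  exact sup_le (hAp ▸ pResidualMap_mono le_top) (hBp ▸ pResidualMap_mono le_top)

end

theorem joinSylow {p : ℕ} [Fact p.Prime] (G : Type u) [Group G] [Finite G] : JoinSylow p G := by
  suffices ∀ (n : ℕ) (G : Type u) [Group G] [Finite G], Nat.card G = n → JoinSylow p G from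
    this _ G rfl
  intro n
  induction n using Nat.strong_induction_on with
  | _ n ih =>
    intro G _ _ hn T hT hi
    have hQ : ∀ C D : Subgroup G, C.IsSubnormal → D.IsSubnormal → C ⊔ D ≠ ⊤ →
        (C ⊔ D) ⊓ T ≤ (C ⊓ T) ⊔ (D ⊓ T) := fun C D hC hD hne =>
      inf_sup_le_of_joinSylow hT hi hC hD (ih _ (hn ▸ lt_of_le_of_ne (card_le_card_group _)
        fun e => hne (eq_top_of_card_eq _ e)) _ rfl)
    intro A B
    induction hm : Nat.card A + Nat.card B using Nat.strong_induction_on generalizing A B with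
    | _ m ihm =>
      intro hA hB hAB
      have step : ∀ C : Subgroup G, C.IsSubnormal → (Cfsg.pResidual p C).map C.subtype ≠ C →
          ((Cfsg.pResidual p C).map C.subtype).IsSubnormal ∧
          Nat.card ((Cfsg.pResidual p C).map C.subtype : Subgroup G) < Nat.card C := fun C hC hne =>
        ⟨IsSubnormal.step _ C (pResidualMap_le C) hC (normal_subgroupOf_of_le_normalizer
          (le_normalizer.trans (pResidualMap_le_normalizer C))),
         lt_of_le_of_ne (card_le_of_le (pResidualMap_le C)) fun e =>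
          hne (eq_of_le_of_card_ge (pResidualMap_le C) e.ge)⟩
      by_cases hBp : (Cfsg.pResidual p B).map B.subtype = B
      · by_cases hAp : (Cfsg.pResidual p A).map A.subtype = A
        · exact le_of_residual_eq hT hi hA hB hAB hQ (fun H _ _ hlt => ih _ (hn ▸ hlt) H rfl) hAp hBp
        · rw [sup_comm]
          refine le_of_residual_lt hi hB hA (by rwa [sup_comm]) hQ fun h => ?_
          exact ihm _ (by have := (step A hA hAp).2; omega) _ _ rfl hB (step A hA hAp).1 h
      · refine le_of_residual_lt hi hA hB hAB hQ fun h => ?_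
        exact ihm _ (by have := (step B hB hBp).2; omega) _ _ rfl hA (step B hB hBp).1 h

/-- A Sylow `p`-subgroup meets the join of two subnormal subgroups in the join of the
intersections. -/
theorem inf_sup_eq_of_isSubnormal {G : Type u} [Group G] [Finite G] {p : ℕ} [Fact p.Prime]
    {T A B : Subgroup G} (hT : IsPGroup p T) (hi : (T.relIndex ⊤).Coprime p) (hA : A.IsSubnormal)
    (hB : B.IsSubnormal) : (A ⊔ B) ⊓ T = (A ⊓ T) ⊔ (B ⊓ T) :=
  le_antisymm (inf_sup_le_of_joinSylow hT hi hA hB (joinSylow _))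
    (sup_le (inf_le_inf_right _ le_sup_left) (inf_le_inf_right _ le_sup_right))

end CfsgLib.FFModules
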