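import Cfsg.Agent.Lib.FFModules.YL

/-!
Fixed points of `p`-groups on sections, inheritance of characteristic `p`, Kieler's lemma, and the
behaviour of `Y` under subnormal subgroups.
-/

set_option autoImplicit false

namespace CfsgLib.FFModules

open Subgroup
open scoped commutatorElement

variable {G : Type*} [Group G] [Finite G] {p : ℕ} [hp : Fact p.Prime]

/-- A `p`-group of automorphisms fixes a nontrivial point of a `p`-section. -/
theorem exists_fixed_of_lt {A Z U : Subgroup G} (hZ : IsPGroup p Z) (hUZ : U < Z)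
    (hUn : Z ≤ normalizer (U : Set G)) (hAZ : A ≤ normalizer (Z : Set G))
    (hAU : A ≤ normalizer (U : Set G))
    (hA : ∀ a ∈ A, ∃ k : ℕ, a ^ p ^ k ∈ centralizer (Z : Set G)) :
    ∃ w ∈ Z, w ∉ U ∧ ∀ a ∈ A, w⁻¹ * (a * w * a⁻¹) ∈ U := by
  have hUN : (U.subgroupOf Z).Normal := normal_subgroupOf_of_le_normalizer hUn
  set act : A →* MulAut Z := Z.normalizerMonoidHom.comp (inclusion hAZ) with hact
  have hR : IsPGroup p act.range := by
    rintro ⟨_, a, rfl⟩
    obtain ⟨k, hk⟩ := hA a a.2
    refine ⟨k, Subtype.ext ?_⟩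
    show (act a) ^ p ^ k = 1
    rw [← map_pow]
    refine MulEquiv.ext fun z => Subtype.ext ?_
    show ((a ^ p ^ k : A) : G) * z * ((a ^ p ^ k : A) : G)⁻¹ = z
    rw [SubgroupClass.coe_pow, ← (hk z z.2), mul_inv_cancel_right]
  have hRU : ∀ r ∈ act.range, ∀ z ∈ U.subgroupOf Z, r z ∈ U.subgroupOf Z := by
    rintro _ ⟨a, rfl⟩ z hz
    exact (Subgroup.mem_normalizer_iff.1 (hAU a.2) _).1 hz
  let _ : MulAction act.range (Z ⧸ U.subgroupOf Z) :=
    { smul := fun r q => QuotientGroup.map (U.subgroupOf Z) (U.subgroupOf Z)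
        (r : MulAut Z).toMonoidHom (fun z hz => hRU r r.2 z hz) q
      one_smul := fun q => by
        induction q using QuotientGroup.induction_on with
        | _ z => rfl
      mul_smul := fun a b q => by
        induction q using QuotientGroup.induction_on with
        | _ z => rfl }
  have hdvd : p ∣ Nat.card (Z ⧸ U.subgroupOf Z) := by
    obtain ⟨k, hk⟩ := IsPGroup.iff_card.1 (hZ.to_quotient (U.subgroupOf Z))
    rw [hk]
    refine dvd_pow_self p fun h0 => ?_
    rw [h0, pow_zero, ← Subgroup.index, index_eq_one, subgroupOf_eq_top] at hk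
    exact hUZ.not_ge hk
  have h1 : (1 : Z ⧸ U.subgroupOf Z) ∈ MulAction.fixedPoints act.range (Z ⧸ U.subgroupOf Z) :=
    fun a => map_one _
  obtain ⟨b, hb, hb1⟩ := hR.exists_fixed_point_of_prime_dvd_card_of_fixed_point _ hdvd h1
  induction b using QuotientGroup.induction_on with
  | _ v =>
    refine ⟨v, v.2, fun h => hb1 ((QuotientGroup.eq_one_iff v).2 h).symm, fun a ha => ?_⟩
    have h2 : QuotientGroup.mk (act ⟨a, ha⟩ v) = (QuotientGroup.mk v : Z ⧸ U.subgroupOf Z) :=
      hb ⟨act ⟨a, ha⟩, ⟨a, ha⟩, rfl⟩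
    have h3 := QuotientGroup.eq.1 h2.symm
    exact h3

/-- If the `p'`-elements of `L` lie in `S`, every element has a `p`-power in `S`. -/
theorem exists_pPow_mem_of_coprime_mem {L S : Subgroup G}
    (h : ∀ x ∈ L, (orderOf x).Coprime p → x ∈ S) {x : G} (hx : x ∈ L) :
    ∃ k : ℕ, x ^ p ^ k ∈ S :=
  (exists_pPow_mem_pResidualMap hx).imp fun _ hk => pResidualMap_le_iff.2 h hk

/-- The `p`-subgroups of `Y` normalised by `L` lie in `O_p(L)`; normal subgroups inherit
characteristic `p`. -/
theorem charP_of_normal {L K : Subgroup G} (hKL : K ≤ L) (hn : L ≤ normalizer (K : Set G))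
    (hchar : L ⊓ centralizer (Cfsg.pCoreOf p L : Set G) ≤ Cfsg.pCoreOf p L) :
    K ⊓ centralizer (Cfsg.pCoreOf p K : Set G) ≤ Cfsg.pCoreOf p K := by
  refine le_pCoreOf inf_le_left (le_normalizer_inf_of le_normalizer
    ((le_normalizer_pCoreOf K).trans (normalizer_le_normalizer_centralizer _))) ?_
  refine isPGroup_of_coprime_eq_one _ fun q hq hqp => ?_
  have hcomm : ∀ c ∈ Cfsg.pCoreOf p L, Commute q c := by
    intro c hc
    have h1 : c⁻¹ * (q * c * q⁻¹) ∈ Cfsg.pCoreOf p L := mul_mem (inv_mem hc)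
      ((Subgroup.mem_normalizer_iff.1 (le_normalizer_pCoreOf L (hKL hq.1)) c).1 hc)
    have h2 : c⁻¹ * (q * c * q⁻¹) ∈ K := by
      have := (Subgroup.mem_normalizer_iff.1 (hn (inv_mem (pCoreOf_le L hc))) q).1 hq.1
      simpa [mul_assoc] using mul_mem this (inv_mem hq.1)
    have h3 : c⁻¹ * (q * c * q⁻¹) ∈ Cfsg.pCoreOf p K :=
      le_pCoreOf (N := Cfsg.pCoreOf p L ⊓ K) inf_le_right
        (le_normalizer_inf_of (hKL.trans (le_normalizer_pCoreOf L)) le_normalizer)
        ((isPGroup_pCoreOf L).to_le inf_le_left) ⟨h1, h2⟩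
    exact commute_of_commutator_mem (isPGroup_pCoreOf L) hqp h1 (Commute.symm (hq.2 _ h3))
  exact eq_one_of_coprime_of_mem (isPGroup_pCoreOf L)
    (hchar ⟨hKL hq.1, fun c hc => ((hcomm c hc).symm)⟩) hqp

theorem charP_top_iff :
    centralizer (Cfsg.pCore p G : Set G) ≤ Cfsg.pCore p G ↔
      (⊤ : Subgroup G) ⊓ centralizer (Cfsg.pCoreOf p (⊤ : Subgroup G) : Set G) ≤
        Cfsg.pCoreOf p (⊤ : Subgroup G) := by
  rw [top_inf_eq, pCoreOf_top]

theorem charP_of_isSubnormal {K : Subgroup G} (hK : K.IsSubnormal)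
    (hchar : centralizer (Cfsg.pCore p G : Set G) ≤ Cfsg.pCore p G) :
    K ⊓ centralizer (Cfsg.pCoreOf p K : Set G) ≤ Cfsg.pCoreOf p K := by
  induction hK with
  | top => exact charP_top_iff.1 hchar
  | step A B hAB _ hN ih =>
    exact charP_of_normal hAB ((normal_subgroupOf_iff_le_normalizer hAB).1 hN) ih

theorem coprime_relIndex_inf_of_normal {T X L : Subgroup G} (hTX : T ≤ X) (hLX : L ≤ X)
    (hn : X ≤ normalizer (L : Set G)) (hi : (T.relIndex X).Coprime p) :
    ((T ⊓ L).relIndex L).Coprime p := by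
  rw [inf_relIndex_right]
  exact coprime_relIndex_of_le_normalizer hi hTX hLX (hTX.trans hn)

theorem coprime_relIndex_inf_of_isSubnormal {T L : Subgroup G}
    (hi : (T.relIndex ⊤).Coprime p) (hL : L.IsSubnormal) : ((T ⊓ L).relIndex L).Coprime p := by
  induction hL with
  | top => rwa [inf_top_eq]
  | step A B hAB _ hN ih =>
    have h := coprime_relIndex_inf_of_normal (inf_le_right (a := T) (b := B)) hAB
      ((normal_subgroupOf_iff_le_normalizer hAB).1 hN) ih
    rwa [inf_assoc, inf_eq_right.2 hAB] at h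

/-- Kieler's lemma for a normal subgroup. -/
theorem kieler_normal {X T L : Subgroup G} (hTX : T ≤ X) (hT : IsPGroup p T)
    (hi : (T.relIndex X).Coprime p)
    (hchar : X ⊓ centralizer (Cfsg.pCoreOf p X : Set G) ≤ Cfsg.pCoreOf p X) (hLX : L ≤ X)
    (hn : X ≤ normalizer (L : Set G)) :
    L ⊓ centralizer ((Cfsg.omegaOne p (T ⊓ centralizer (T : Set G)) : Subgroup G) : Set G) =
      L ⊓ centralizer
        ((Cfsg.omegaOne p ((T ⊓ L) ⊓ centralizer ((T ⊓ L : Subgroup G) : Set G)) : Subgroup G) :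
          Set G) := by
  set T₀ := T ⊓ L with hT₀
  set Z := Cfsg.omegaOne p (T ⊓ centralizer (T : Set G))
  set Z₀ := Cfsg.omegaOne p (T₀ ⊓ centralizer (T₀ : Set G))
  have hi₀ : (T₀.relIndex L).Coprime p := coprime_relIndex_inf_of_normal hTX hLX hn hi
  have hcX : Cfsg.pCoreOf p X ≤ T := pCoreOf_le_of_coprime_relIndex hTX hT hi
  refine le_antisymm (le_inf inf_le_left ?_) (le_inf inf_le_left ?_)
  · -- `C_L(Z)` centralises `Z₀`
    set M := L ⊓ centralizer (Z : Set G) with hM
    have hTM : T ≤ normalizer (M : Set G) := le_normalizer_inf_of (hTX.trans hn)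
      ((le_normalizer_of_conj_le fun t ht => (map_conj_omegaCenter T t).trans
        (by rw [map_conj_eq_self (le_normalizer ht)])).trans (normalizer_le_normalizer_centralizer Z))
    have hT₀M : T₀ ≤ M := le_inf inf_le_right fun t ht z hz =>
      ((mem_omegaCenter_iff.1 hz).2.1 t ht.1).symm
    refine le_centralizer_comm ?_
    by_contra hne
    set U := Z₀ ⊓ centralizer (M : Set G) with hU
    have hUlt : U < Z₀ := lt_of_le_of_ne inf_le_left fun e => hne (e ▸ inf_le_right)
    have hTZ₀ : T ≤ normalizer (Z₀ : Set G) := le_normalizer_of_conj_le fun t ht =>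
      (map_conj_omegaCenter T₀ t).trans (by
        rw [map_conj_eq_self (le_normalizer_inf_of le_normalizer (hTX.trans hn) ht)])
    have hTU : T ≤ normalizer (U : Set G) :=
      le_normalizer_inf_of hTZ₀ (hTM.trans (normalizer_le_normalizer_centralizer M))
    have hZ₀T : Z₀ ≤ T := (omegaOne_le _).trans (inf_le_left.trans inf_le_left)
    obtain ⟨w, hw, hwU, hfix⟩ := exists_fixed_of_lt (A := T) (hT.to_le hZ₀T) hUlt
      (hZ₀T.trans hTU) hTZ₀ hTU fun a ha => by
        obtain ⟨k, hk⟩ := exists_pPow_eq_one hT ha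
        exact ⟨k, by rw [hk]; exact one_mem _⟩
    have hcharL := charP_of_normal hLX hn hchar
    set V := Cfsg.omegaOne p (Cfsg.pCoreOf p L ⊓ centralizer (Cfsg.pCoreOf p L : Set G))
    have hwV : w ∈ V := omegaCenter_le_omegaCenter_core inf_le_right (hT.to_le inf_le_left) hi₀ hcharL hw
    have hMV : M ≤ normalizer (V : Set G) := le_normalizer_of_conj_le fun m hm =>
      (map_conj_omegaCenter _ m).trans (by rw [map_conj_eq_self (le_normalizer_pCoreOf L hm.1)])
    obtain ⟨u, d, hud, -, hdV, huM, -, -, heq⟩ := gaschutz_split (T₀ := T₀) (elemAb_omegaCenter _)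
      hMV hT₀M (coprime_relIndex_of_le hT₀M inf_le_left hi₀) hwV
      (fun t ht => (mem_omegaCenter_iff.1 hw).2.1 t ht)
    have hTV : T ≤ normalizer (V : Set G) := le_normalizer_of_conj_le fun t ht =>
      (map_conj_omegaCenter _ t).trans (by
        rw [map_conj_eq_self (normalizer_le_normalizer_pCoreOf L ((hTX.trans hn) ht))])
    have hdT : ∀ t ∈ T, Commute t d := fun t ht =>
      heq t (hTM ht) (hTV ht) fun m hm => (hfix t ht).2 m hm
    have hdZ : d ∈ Z := mem_omegaCenter_iff.2
      ⟨(pCoreOf_le_of_coprime_relIndex inf_le_right (hT.to_le inf_le_left) hi₀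
        ((omegaOne_le _).trans inf_le_left hdV)).1, hdT, (elemAb_omegaCenter _).2 d hdV⟩
    apply hwU
    refine ⟨hw, fun m hm => ?_⟩
    have h1 : Commute m u := huM m hm
    have h2 : Commute m d := Commute.symm (hm.2 d hdZ)
    rw [← hud]
    exact h1.mul_right h2
  · -- `C_L(Z₀)` centralises `Z`
    intro x hx z hz
    have hVX : L ≤ normalizer
        ((Cfsg.omegaOne p (Cfsg.pCoreOf p X ⊓ centralizer (Cfsg.pCoreOf p X : Set G)) : Subgroup G) : Set G) :=
      le_normalizer_of_conj_le fun l hl => (map_conj_omegaCenter _ l).trans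
        (by rw [map_conj_eq_self (le_normalizer_pCoreOf X (hLX hl))])
    obtain ⟨u, d, hud, -, hdV, huM, hdT, hd, -⟩ := gaschutz_split (M := L) (T₀ := T₀)
      (elemAb_omegaCenter _) hVX inf_le_right hi₀ (omegaCenter_le_omegaCenter_core hTX hT hi hchar hz)
      (fun t ht => (mem_omegaCenter_iff.1 hz).2.1 t ht.1)
    have hdL : d ∈ L := by
      refine (commutator_le.2 ?_) hd
      intro a ha b hb
      have hb' : b ∈ L := pResidualMap_le L hb
      have := (Subgroup.mem_normalizer_iff.1
        (hn (pCoreOf_le X ((omegaOne_le _).trans inf_le_left ha))) b).1 hb'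
      rw [commutatorElement_def]
      exact mul_mem this (inv_mem hb')
    have hdZ : d ∈ Z₀ := mem_omegaCenter_iff.2
      ⟨⟨hcX ((omegaOne_le _).trans inf_le_left hdV), hdL⟩, hdT, (elemAb_omegaCenter _).2 d hdV⟩
    have h1 : Commute x u := huM x hx.1
    have h2 : Commute x d := (hx.2 d hdZ).symm
    rw [← hud]
    exact (h1.mul_right h2).symm

/-- Kieler's lemma for a subnormal subgroup. -/
theorem kieler {T L : Subgroup G} (hT : IsPGroup p T) (hi : (T.relIndex ⊤).Coprime p)
    (hchar : centralizer (Cfsg.pCore p G : Set G) ≤ Cfsg.pCore p G) (hL : L.IsSubnormal) :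
    L ⊓ centralizer ((Cfsg.omegaOne p (T ⊓ centralizer (T : Set G)) : Subgroup G) : Set G) =
      L ⊓ centralizer
        ((Cfsg.omegaOne p ((T ⊓ L) ⊓ centralizer ((T ⊓ L : Subgroup G) : Set G)) : Subgroup G) :
          Set G) := by
  induction hL with
  | top => rw [inf_top_eq]
  | step A B hAB hB hN ih =>
    have h := kieler_normal (inf_le_right (a := T) (b := B)) (hT.to_le inf_le_left)
      (coprime_relIndex_inf_of_isSubnormal hi hB) (charP_of_isSubnormal hB hchar) hAB
      ((normal_subgroupOf_iff_le_normalizer hAB).1 hN)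
    rw [← inf_eq_left.2 hAB, inf_assoc, ih, ← inf_assoc, inf_eq_left.2 hAB, h,
      inf_assoc T B A, inf_eq_right.2 hAB]

/-- Elements normalising both factors normalise the commutator subgroup. -/
theorem le_normalizer_commutator' {L A B : Subgroup G} (hA : L ≤ normalizer (A : Set G))
    (hB : L ≤ normalizer (B : Set G)) : L ≤ normalizer ((⁅A, B⁆ : Subgroup G) : Set G) :=
  le_normalizer_of_conj_le fun l hl => by
    rw [map_commutator, map_conj_eq_self (hA hl), map_conj_eq_self (hB hl)]

/-- `[V, q] ≤ K` for a `p'`-element `q` of a subnormal subgroup `K` and a normal module `V`. -/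
theorem commutator_zpowers_le_of_isSubnormal {V K : Subgroup G} [V.Normal]
    (hV : Cfsg.IsElementaryAbelian p V) (hK : K.IsSubnormal) {q : G} (hq : q ∈ K)
    (hqp : (orderOf q).Coprime p) : ⁅V, zpowers q⁆ ≤ K := by
  induction hK with
  | top => exact le_top
  | step A B hAB _ hN ih =>
    refine (commutator_le_commutator_commutator hV hqp
      (by rw [normalizer_eq_top_iff.2 ‹V.Normal›]; exact mem_top q)).trans ?_
    refine commutator_le.2 fun b hb a ha => ?_
    have hb' := ih (hAB hq) hb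
    have ha' : a ∈ A := zpowers_le.2 hq ha
    have := (Subgroup.mem_normalizer_iff.1 (((normal_subgroupOf_iff_le_normalizer hAB).1 hN) hb') a).1 ha'
    rw [commutatorElement_def]
    exact mul_mem this (inv_mem ha')

/-- `ReducedIn` is preserved by conjugation. -/
theorem ReducedIn.map_conj {L V : Subgroup G} (h : ReducedIn p L V) (g : G) :
    ReducedIn p (L.map (MulAut.conj g).toMonoidHom) (V.map (MulAut.conj g).toMonoidHom) := by
  refine ⟨(map_mono h.normalizes).trans (le_normalizer_map _),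
    elemAb_of_commute ?_ ?_, fun D hD hDn hpow => ?_⟩
  · rintro _ ⟨a, ha, rfl⟩ _ ⟨b, hb, rfl⟩
    exact (elemAb_commute h.elemAb ha hb).map _
  · rintro _ ⟨a, ha, rfl⟩
    rw [← map_pow, h.elemAb.2 a ha, map_one]
  set E := D.map (MulAut.conj g⁻¹).toMonoidHom with hE
  have h1 : E ≤ L := by
    rw [hE, ← map_conj_inv_map L g]; exact map_mono hD
  have h2 : L ≤ normalizer (E : Set G) := by
    conv_lhs => rw [← map_conj_inv_map L g]
    exact (map_mono hDn).trans (le_normalizer_map _)
  have h3 : E ≤ centralizer (V : Set G) := h.reduced E h1 h2 (by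
    rintro _ ⟨d, hd, rfl⟩
    obtain ⟨k, hk⟩ := hpow d hd
    refine ⟨k, fun x hx => ?_⟩
    have hk' := hk _ (mem_map_of_mem (MulAut.conj g).toMonoidHom hx)
    rw [← map_pow]
    simpa [mul_assoc] using congrArg (fun z => g⁻¹ * z * g) hk')
  intro d hd
  rintro _ ⟨x, hx, rfl⟩
  have h4 := h3 (mem_map_of_mem _ hd) x hx
  simpa [mul_assoc] using congrArg (fun z => g * z * g⁻¹) h4

theorem normalizer_le_normalizer_largestPReducedOf (L : Subgroup G) :
    normalizer (L : Set G) ≤ normalizer (Cfsg.largestPReducedOf p L : Set G) :=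
  le_normalizer_of_conj_le fun g hg => by
    refine le_largestPReducedOf ((map_mono (largestPReducedOf_le L)).trans (map_conj_eq_self hg).le) ?_
    have h := (reducedIn_largestPReducedOf (p := p) L).map_conj g
    rwa [map_conj_eq_self hg] at h

/-- For `L` normal in `X`: `C_L(Y_X) ≤ C(Y_L)`. -/
theorem inf_centralizer_le_of_normal {X L : Subgroup G} (hLX : L ≤ X)
    (hn : X ≤ normalizer (L : Set G)) :
    L ⊓ centralizer (Cfsg.largestPReducedOf p X : Set G) ≤
      centralizer (Cfsg.largestPReducedOf p L : Set G) := by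
  set Y := Cfsg.largestPReducedOf p L with hY
  have hYr : ReducedIn p L Y := reducedIn_largestPReducedOf L
  set S := {W : Subgroup G | W ≤ Y ∧ X ≤ normalizer (W : Set G) ∧
    L ⊓ centralizer (W : Set G) ≤ centralizer (Y : Set G)}
  obtain ⟨W, ⟨hWY, hWn, hWC⟩, hmin⟩ := (Set.toFinite S).exists_minimal
    ⟨Y, le_rfl, hn.trans (normalizer_le_normalizer_largestPReducedOf L), inf_le_right⟩
  have hWe := elemAb_mono hYr.elemAb hWY
  have hWr : ReducedIn p X W := by
    refine ⟨hWn, hWe, fun D hD hDn hpow => ?_⟩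
    have hC := normalizer_le_normalizer_centralizer W
    have hDL : D ⊓ L ≤ centralizer (W : Set G) := (hYr.reduced (D ⊓ L) inf_le_right
      (le_normalizer_inf_of (hLX.trans hDn) le_normalizer) fun x hx =>
        (hpow x hx.1).imp fun k hk => hWC ⟨pow_mem hx.2 _, hk⟩).trans (centralizer_le hWY)
    set E := W ⊓ centralizer (D : Set G) with hE
    have hEn : X ≤ normalizer (E : Set G) :=
      le_normalizer_inf_of hWn (hDn.trans (normalizer_le_normalizer_centralizer D))
    have hES : E ∈ S := by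
      refine ⟨inf_le_left.trans hWY, hEn, ?_⟩
      refine hYr.reduced _ inf_le_left (le_normalizer_inf_of le_normalizer
        ((hLX.trans hEn).trans (normalizer_le_normalizer_centralizer E))) fun x hx => ?_
      refine exists_pPow_mem_of_coprime_mem (L := L ⊓ centralizer (E : Set G)) (fun q hq hqp => hWC ⟨hq.1, ?_⟩) hx
      -- `q` centralises `W` by the `A × B` argument
      have hqX : q ∈ X := hLX hq.1
      set F := W ⊓ centralizer ({q} : Set G) with hF
      have hmemF : ∀ w, w ∈ F ↔ w ∈ W ∧ Commute q w := fun w => by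
        simp [hF, mem_centralizer_iff, Commute, SemiconjBy]
      by_contra hne
      have hFlt : F < W := lt_of_le_of_ne inf_le_left fun e =>
        hne fun w hw => Commute.symm ((hmemF w).1 (e ▸ hw)).2
      have hcd : ∀ d ∈ D, ∀ w ∈ W, d * (q * w * q⁻¹) * d⁻¹ = q * (d * w * d⁻¹) * q⁻¹ := by
        intro d hd w hw
        have hk : (q * d)⁻¹ * (d * q) ∈ D ⊓ L := by
          refine ⟨?_, ?_⟩
          · have := (Subgroup.mem_normalizer_iff.1 (hDn (inv_mem hqX)) d).1 hd
            simpa [mul_assoc] using mul_mem (inv_mem hd) this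
          · have := (Subgroup.mem_normalizer_iff.1 (hn (hD (inv_mem hd))) q⁻¹).1 (inv_mem hq.1)
            simpa [mul_assoc] using mul_mem this hq.1
        have h1 := hDL hk w hw
        calc d * (q * w * q⁻¹) * d⁻¹ = q * d * (((q * d)⁻¹ * (d * q)) * w) * (d * q)⁻¹ := by group
          _ = q * (d * w * d⁻¹) * q⁻¹ := by rw [← h1]; group
      have hDF : D ≤ normalizer (F : Set G) := by
        refine le_normalizer_of_conj_le fun d hd => ?_
        rintro _ ⟨w, hw, rfl⟩
        obtain ⟨hw1, hw2⟩ := (hmemF w).1 hw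
        refine (hmemF _).2 ⟨(Subgroup.mem_normalizer_iff.1 (hWn (hD hd)) w).1 hw1, ?_⟩
        show q * (d * w * d⁻¹) = d * w * d⁻¹ * q
        refine mul_inv_eq_iff_eq_mul.1 ?_
        rw [← hcd d hd w hw1, hw2.eq]; group
      obtain ⟨w, hw, hwF, hfix⟩ := exists_fixed_of_lt (isPGroup_of_elemAb hWe) hFlt
        (fun a ha => by
          rw [Subgroup.mem_normalizer_iff]
          intro b
          refine ⟨fun hb => ?_, fun hb => ?_⟩
          · rwa [(elemAb_commute hWe ha (inf_le_left (a := W) hb)).eq, mul_inv_cancel_right]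
          · have hbW : b ∈ W := by
              simpa [mul_assoc] using mul_mem (mul_mem (inv_mem ha) (inf_le_left (a := W) hb)) ha
            rwa [(elemAb_commute hWe ha hbW).eq, mul_inv_cancel_right] at hb)
        (hD.trans hWn) hDF hpow
      apply hwF
      refine (hmemF w).2 ⟨hw, ?_⟩
      have hqw : q * w * q⁻¹ ∈ W := (Subgroup.mem_normalizer_iff.1 (hWn hqX) w).1 hw
      set c := w⁻¹ * (q * w * q⁻¹) with hc
      have hcW : c ∈ W := mul_mem (inv_mem hw) hqw
      refine commute_of_commutator_mem (isPGroup_of_elemAb hWe) hqp hcW (Commute.symm (hq.2 _ ⟨hcW, ?_⟩))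
      intro d hd
      obtain ⟨hf, hfq⟩ := (hmemF _).1 (hfix d hd)
      show d * c = c * d
      refine mul_inv_eq_iff_eq_mul.1 ?_
      set f := w⁻¹ * (d * w * d⁻¹) with hfdef
      have e1 : d * w * d⁻¹ = w * f := by rw [hfdef]; group
      have e2 : q * f * q⁻¹ = f := by rw [hfq.eq]; group
      have e3 : f⁻¹ * c * f = c := by rw [mul_assoc, (elemAb_commute hWe hcW hf).eq]; group
      calc d * c * d⁻¹ = (d * w * d⁻¹)⁻¹ * (d * (q * w * q⁻¹) * d⁻¹) := by rw [hc]; group
        _ = f⁻¹ * w⁻¹ * ((q * w * q⁻¹) * (q * f * q⁻¹)) := by rw [hcd d hd w hw, e1]; group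
        _ = f⁻¹ * c * f := by rw [e2, hc]; group
        _ = c := e3
    intro d hd w hw
    exact (((hmin hES inf_le_left) hw).2 d hd).symm
  intro x hx
  exact hWC ⟨hx.1, centralizer_le (SetLike.coe_subset_coe.2
    (le_largestPReducedOf (hWY.trans ((largestPReducedOf_le L).trans hLX)) hWr)) hx.2⟩

theorem inf_centralizer_le_of_isSubnormal {L : Subgroup G} (hL : L.IsSubnormal) :
    L ⊓ centralizer (Cfsg.largestPReduced p G : Set G) ≤
      centralizer (Cfsg.largestPReducedOf p L : Set G) := by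
  induction hL with
  | top => rw [largestPReduced_eq_of_top]; exact inf_le_right
  | step A B hAB _ hN ih =>
    exact (le_inf inf_le_left ((inf_le_inf_right _ hAB).trans ih)).trans
      (inf_centralizer_le_of_normal hAB ((normal_subgroupOf_iff_le_normalizer hAB).1 hN))

end CfsgLib.FFModules
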