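import Mathlib.GroupTheory.Nilpotent
import Cfsg.Agent.Lib.FFModules.CoreBasic
import Cfsg.Prelude.Def_LocalStructure

/-!
The L-lemma for groups `H` that are minimal over a Sylow `p`-subgroup `T`.

Proof: choose a `p`-subgroup `D ≥ O_p(H)`, generated by `O_p(H)` and conjugates of `A`, maximal
subject to lying in two conjugates of the maximal subgroup `M`.  Its normalizer lies in no
relevant conjugate and contains a conjugate `B` of `A` such that `D B` lies in a unique one.
-/

set_option autoImplicit false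

namespace CfsgLib.FFModules.LLemma

open Subgroup
open scoped Pointwise

variable {G : Type*} [Group G]

theorem conj_conj (a b : G) (K : Subgroup G) :
    MulAut.conj a • MulAut.conj b • K = MulAut.conj (a * b) • K := by
  rw [smul_smul, ← map_mul]

theorem conj_mem_conj {a x : G} {K : Subgroup G} (hx : x ∈ K) :
    a * x * a⁻¹ ∈ MulAut.conj a • K :=
  smul_mem_pointwise_smul x (MulAut.conj a) K hx

theorem mem_normalizer_of_conj_le [Finite G] {g : G} {K : Subgroup G}
    (h : MulAut.conj g • K ≤ K) : g ∈ normalizer (K : Set G) := by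
  have e : MulAut.conj g • K = K :=
    eq_of_le_of_card_ge h (Nat.card_congr (equivSMul (MulAut.conj g) K).toEquiv).le
  rw [mem_normalizer_iff]
  refine fun x => ⟨fun hx => e ▸ conj_mem_conj hx, fun hx => ?_⟩
  have : g * x * g⁻¹ ∈ MulAut.conj g • K := e.symm ▸ hx
  exact (smul_mem_pointwise_smul_iff (a := MulAut.conj g)).1 this

theorem conj_eq_of_mem_normalizer [Finite G] {g : G} {K : Subgroup G}
    (h : g ∈ normalizer (K : Set G)) : MulAut.conj g • K = K := by
  refine eq_of_le_of_card_ge ?_ (Nat.card_congr (equivSMul (MulAut.conj g) K).toEquiv).le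
  intro y hy
  obtain ⟨x, hx, rfl⟩ := (mem_smul_pointwise_iff_exists _ _ _).1 hy
  exact (mem_normalizer_iff.1 h x).1 hx

theorem mem_normalizer_conj [Finite G] {g x : G} {K : Subgroup G}
    (h : x ∈ normalizer (K : Set G)) :
    g * x * g⁻¹ ∈ normalizer ((MulAut.conj g • K : Subgroup G) : Set G) := by
  refine mem_normalizer_of_conj_le (le_of_eq ?_)
  rw [conj_conj, show g * x * g⁻¹ * g = g * x by group, ← conj_conj, conj_eq_of_mem_normalizer h]

theorem conj_le_normalizer [Finite G] (g : G) {X K : Subgroup G}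
    (h : X ≤ normalizer (K : Set G)) :
    MulAut.conj g • X ≤ normalizer ((MulAut.conj g • K : Subgroup G) : Set G) := by
  intro y hy
  obtain ⟨x, hx, rfl⟩ := (mem_smul_pointwise_iff_exists _ _ _).1 hy
  exact mem_normalizer_conj (h hx)

/-- The configuration from which the L-lemma is read off: `A` normalises the `p`-group `D`,
`D ⊔ A` lies in a unique conjugate `M'` of `M`, and the normalizer of `D` is not in `M'`. -/
structure Pivot (p : ℕ) (M A D M' : Subgroup G) : Prop where
  isPGroup : IsPGroup p D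
  pCore_le : Cfsg.pCore p G ≤ D
  le_normalizer : A ≤ normalizer (D : Set G)
  conj : ∃ g : G, M' = MulAut.conj g • M
  le : D ⊔ A ≤ M'
  unique : ∀ g : G, D ⊔ A ≤ MulAut.conj g • M → MulAut.conj g • M = M'
  not_le : ¬ normalizer (D : Set G) ≤ M'

theorem Pivot.smul [Finite G] {p : ℕ} {M A D M' : Subgroup G} (h : Pivot p M A D M') (g : G) :
    Pivot p M (MulAut.conj g • A) (MulAut.conj g • D) (MulAut.conj g • M') := by
  have hQn := normal_pCore (G := G) (p := p)
  refine ⟨h.isPGroup.of_equiv (equivSMul (MulAut.conj g) D), ?_,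
    conj_le_normalizer g h.le_normalizer, ?_, ?_, ?_, ?_⟩
  · have e : MulAut.conj g • Cfsg.pCore p G = Cfsg.pCore p G :=
      conj_eq_of_mem_normalizer (by rw [normalizer_eq_top_iff.2 hQn]; exact mem_top g)
    exact e ▸ pointwise_smul_le_pointwise_smul_iff.2 h.pCore_le
  · obtain ⟨a, ha⟩ := h.conj
    exact ⟨g * a, by rw [ha, conj_conj]⟩
  · rw [← smul_sup]
    exact pointwise_smul_le_pointwise_smul_iff.2 h.le
  · intro a ha
    rw [← smul_sup] at ha
    have h1 : D ⊔ A ≤ MulAut.conj (g⁻¹ * a) • M := by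
      rw [← conj_conj, map_inv]
      exact pointwise_smul_subset_iff.1 ha
    rw [← h.unique _ h1, conj_conj]
    group
  · intro hle
    refine h.not_le fun x hx => ?_
    have := hle (mem_normalizer_conj (g := g) hx)
    exact (smul_mem_pointwise_smul_iff (a := MulAut.conj g)).1 this

variable {p : ℕ}

theorem exists_pivot [Finite G] [Fact p.Prime] (T : Sylow p G)
    (hmin : Cfsg.IsMinimalOver (T : Subgroup G)) (M : Subgroup G)
    (hM : IsCoatom M ∧ (T : Subgroup G) ≤ M) (A : Subgroup G) (hAT : A ≤ (T : Subgroup G))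
    (hA : ¬ A ≤ Cfsg.pCore p G) : ∃ D M' : Subgroup G, Pivot p M A D M' := by
  classical
  obtain ⟨hnc, hex⟩ := hmin
  have hQn := normal_pCore (G := G) (p := p)
  obtain ⟨Q, hQ⟩ : ∃ Q, Q = Cfsg.pCore p G := ⟨_, rfl⟩
  rw [← hQ] at hA hQn
  have hQsmul : ∀ g : G, MulAut.conj g • Q = Q := fun g =>
    conj_eq_of_mem_normalizer (by rw [normalizer_eq_top_iff.2 hQn]; exact mem_top g)
  -- a conjugate of `M` containing a conjugate of `T` is the corresponding one
  have huniq : ∀ g a : G, MulAut.conj g • (T : Subgroup G) ≤ MulAut.conj a • M →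
      MulAut.conj a • M = MulAut.conj g • M := by
    intro g a h
    have h1 : (T : Subgroup G) ≤ MulAut.conj (g⁻¹ * a) • M := by
      rw [← conj_conj, map_inv]
      exact pointwise_smul_subset_iff.1 h
    have hco : IsCoatom (MulAut.conj (g⁻¹ * a) • M) :=
      (OrderIso.isCoatom_iff (MulEquiv.mapSubgroup (MulAut.conj (g⁻¹ * a))) M).2 hM.1
    have h2 := hex.unique ⟨hco, h1⟩ hM
    conv_rhs => rw [← h2]
    rw [conj_conj]
    group
  have hT_mem : ∀ K : Subgroup G, IsPGroup p K → ∃ g : G, K ≤ MulAut.conj g • (T : Subgroup G) := by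
    intro K hK
    obtain ⟨S, hS⟩ := hK.exists_le_sylow
    obtain ⟨g, rfl⟩ := MulAction.exists_smul_eq G T S
    exact ⟨g, hS⟩
  have hQT : ∀ g : G, Q ≤ MulAut.conj g • (T : Subgroup G) := fun g =>
    hQsmul g ▸ pointwise_smul_le_pointwise_smul_iff.2 (hQ ▸ pCore_le_sylow T)
  have hTM : ∀ g : G, MulAut.conj g • (T : Subgroup G) ≤ MulAut.conj g • M := fun g =>
    pointwise_smul_le_pointwise_smul_iff.2 hM.2
  -- `p`-subgroups generated by `Q` and conjugates of `A` lying in two conjugates of `M`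
  obtain ⟨D, ⟨hQD, hDp, hDgen, a₁, a₂, hne, hD₁, hD₂⟩, hmax⟩ := Set.Finite.exists_maximal
    (s := {P : Subgroup G | Q ≤ P ∧ IsPGroup p P ∧
      (∀ K : Subgroup G, Q ≤ K → (∀ g : G, MulAut.conj g • A ≤ P → MulAut.conj g • A ≤ K) → P ≤ K) ∧
      ∃ a b : G, MulAut.conj a • M ≠ MulAut.conj b • M ∧
        P ≤ MulAut.conj a • M ∧ P ≤ MulAut.conj b • M})
    (Set.toFinite _) ⟨Q, le_rfl, hQ ▸ isPGroup_pCore, fun K hK _ => hK, by
      obtain ⟨a, ha⟩ : ∃ a : G, MulAut.conj a • M ≠ MulAut.conj (1 : G) • M := by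
        by_contra h
        push_neg at h
        haveI : M.Normal := by
          refine ⟨fun x hx g => ?_⟩
          have := conj_mem_conj (a := g) hx
          rwa [h g, map_one, one_smul] at this
        exact hM.1.1 (top_le_iff.1 (hnc ▸ normalClosure_le_normal hM.2))
      exact ⟨a, 1, ha, (hQT a).trans (hTM a), (hQT 1).trans (hTM 1)⟩⟩
  have hchoice : ∀ a : G, D ≤ MulAut.conj a • M →
      ∃ g : G, MulAut.conj g • M = MulAut.conj a • M ∧ D ≤ MulAut.conj g • (T : Subgroup G) := by
    intro a ha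
    let S : Sylow p (MulAut.conj a • M : Subgroup G) := (a • T).subtype (hTM a)
    obtain ⟨P, hP⟩ := ((isPGroup_subgroupOf ha).2 hDp).exists_le_sylow
    obtain ⟨y, hy⟩ := MulAction.exists_smul_eq (MulAut.conj a • M : Subgroup G) S P
    refine ⟨(y : G) * a, ?_, fun d hd => ?_⟩
    · rw [← conj_conj]
      exact conj_eq_of_mem_normalizer (Subgroup.le_normalizer y.2)
    · have h1 : (⟨d, ha hd⟩ : (MulAut.conj a • M : Subgroup G)) ∈
          MulAut.conj y • (S : Subgroup _) := by
        rw [← hy] at hP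
        exact hP hd
      obtain ⟨s, hs, hsd⟩ := (mem_smul_pointwise_iff_exists _ _ _).1 h1
      rw [← conj_conj]
      refine (mem_smul_pointwise_iff_exists _ _ _).2 ⟨s, hs, ?_⟩
      exact congrArg Subtype.val hsd
  -- adding a conjugate of `A` inside the normalizer
  have hunique : ∀ h : G, MulAut.conj h • A ≤ normalizer (D : Set G) → ¬ MulAut.conj h • A ≤ D →
      ∀ a b : G, D ⊔ MulAut.conj h • A ≤ MulAut.conj a • M →
        D ⊔ MulAut.conj h • A ≤ MulAut.conj b • M → MulAut.conj a • M = MulAut.conj b • M := by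
    intro h hn hnot a b ha hb
    by_contra hab
    refine hnot (le_sup_right.trans (hmax ⟨hQD.trans le_sup_left, ?_, ?_, a, b, hab, ha, hb⟩
      le_sup_left))
    · exact hDp.to_sup_of_normal_left' ((T.2.to_le hAT).of_equiv (equivSMul (MulAut.conj h) A)) hn
    · intro K hQK hK
      exact sup_le (hDgen K hQK fun g hg => hK g (hg.trans le_sup_left)) (hK h le_sup_right)
  have hgrow : ∀ g : G, D ≤ MulAut.conj g • (T : Subgroup G) →
      (∀ h : G, MulAut.conj h • A ≤ MulAut.conj g • (T : Subgroup G) →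
        MulAut.conj h • A ≤ normalizer (D : Set G) → MulAut.conj h • A ≤ D) →
      MulAut.conj g • (T : Subgroup G) ≤ normalizer (D : Set G) := by
    intro g hg hall
    obtain ⟨T', hT'⟩ : ∃ T', T' = MulAut.conj g • (T : Subgroup G) := ⟨_, rfl⟩
    rw [← hT'] at hg hall ⊢
    have hT'p : IsPGroup p T' := hT' ▸ T.2.of_equiv (equivSMul (MulAut.conj g) _)
    haveI : Group.IsNilpotent T' := hT'p.isNilpotent
    rw [← subgroupOf_eq_top]
    by_contra htop
    obtain ⟨x, hx, hxnot⟩ := SetLike.exists_of_lt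
      (Group.normalizerCondition_of_isNilpotent _ (lt_top_iff_ne_top.2 htop))
    apply hxnot
    refine mem_subgroupOf.2 (mem_normalizer_of_conj_le (pointwise_smul_subset_iff.2 ?_))
    refine hDgen _ ?_ fun k hk => ?_
    · rw [← map_inv, ← hQsmul (x : G)⁻¹]
      exact pointwise_smul_le_pointwise_smul_iff.2 hQD
    · have hN : ∀ z ∈ MulAut.conj k • A,
          (x : G) * z * (x : G)⁻¹ ∈ T' ∧ (x : G) * z * (x : G)⁻¹ ∈ normalizer (D : Set G) := by
        intro z hz
        have hzT : z ∈ T' := hg (hk hz)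
        have := (mem_normalizer_iff.1 hx ⟨z, hzT⟩).1 (Subgroup.le_normalizer (hk hz))
        exact ⟨T'.mul_mem (T'.mul_mem x.2 hzT) (T'.inv_mem x.2), this⟩
      have h1 : MulAut.conj ((x : G) * k) • A ≤ D := by
        refine hall _ (fun y hy => ?_) fun y hy => ?_ <;>
        · rw [← conj_conj] at hy
          obtain ⟨z, hz, rfl⟩ := (mem_smul_pointwise_iff_exists _ _ _).1 hy
          first | exact (hN z hz).1 | exact (hN z hz).2
      rw [← conj_conj] at h1
      exact pointwise_smul_subset_iff.1 h1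
  -- the two Sylow subgroups
  obtain ⟨g₁, hg₁, hDT₁⟩ := hchoice a₁ hD₁
  obtain ⟨g₂, hg₂, hDT₂⟩ := hchoice a₂ hD₂
  have hnot₁ : ¬ normalizer (D : Set G) ≤ MulAut.conj g₁ • M := by
    intro hle
    by_cases hall : ∀ h : G, MulAut.conj h • A ≤ MulAut.conj g₂ • (T : Subgroup G) →
        MulAut.conj h • A ≤ normalizer (D : Set G) → MulAut.conj h • A ≤ D
    · exact hne (by rw [← hg₁, ← hg₂, huniq g₂ g₁ ((hgrow g₂ hDT₂ hall).trans hle)])
    · push_neg at hall
      obtain ⟨h, hhT, hhN, hhD⟩ := hall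
      refine hne ?_
      rw [← hg₁, ← hg₂]
      exact hunique h hhN hhD g₁ g₂ (sup_le (Subgroup.le_normalizer.trans hle) (hhN.trans hle))
        (sup_le (hDT₂.trans (hTM g₂)) (hhT.trans (hTM g₂)))
  obtain ⟨h, hhT, hhN, hhD⟩ : ∃ h : G, MulAut.conj h • A ≤ MulAut.conj g₁ • (T : Subgroup G) ∧
      MulAut.conj h • A ≤ normalizer (D : Set G) ∧ ¬ MulAut.conj h • A ≤ D := by
    by_contra hall
    push_neg at hall
    have hT₁ := hgrow g₁ hDT₁ hall
    have hDn : D.Normal := by
      rw [← normalizer_eq_top_iff]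
      by_contra hne'
      obtain ⟨X, hX, hNX⟩ := (eq_top_or_exists_le_coatom (normalizer (D : Set G))).resolve_left hne'
      have h1 : (T : Subgroup G) ≤ MulAut.conj g₁⁻¹ • X := by
        rw [map_inv]; exact pointwise_smul_subset_iff.1 (hT₁.trans hNX)
      have h2 := hex.unique
        ⟨(OrderIso.isCoatom_iff (MulEquiv.mapSubgroup (MulAut.conj g₁⁻¹)) X).2 hX, h1⟩ hM
      refine hnot₁ (hNX.trans ?_)
      rw [← h2]
      show X ≤ MulAut.conj g₁ • MulAut.conj g₁⁻¹ • X
      rw [conj_conj, mul_inv_cancel, map_one, one_smul]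
    have hDQ : D ≤ Q := hQ ▸ le_pCore hDn hDp
    have h3 : MulAut.conj g₁ • A ≤ MulAut.conj g₁ • (T : Subgroup G) :=
      pointwise_smul_le_pointwise_smul_iff.2 hAT
    have h4 := ((hall g₁ h3 (by rw [normalizer_eq_top_iff.2 hDn]; exact le_top)).trans hDQ)
    rw [← hQsmul g₁] at h4
    exact hA (pointwise_smul_le_pointwise_smul_iff.1 h4)
  have hB : Pivot p M (MulAut.conj h • A) D (MulAut.conj g₁ • M) :=
    ⟨hDp, hQ ▸ hQD, hhN, ⟨g₁, rfl⟩, sup_le (hDT₁.trans (hTM g₁)) (hhT.trans (hTM g₁)),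
      fun a ha => hunique h hhN hhD a g₁ ha
        (sup_le (hDT₁.trans (hTM g₁)) (hhT.trans (hTM g₁))), hnot₁⟩
  refine ⟨MulAut.conj h⁻¹ • D, MulAut.conj h⁻¹ • MulAut.conj g₁ • M, ?_⟩
  have := hB.smul h⁻¹
  rwa [conj_conj h⁻¹ h A, inv_mul_cancel, map_one, one_smul] at this

end CfsgLib.FFModules.LLemma
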