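import Cfsg.Agent.Lib.FFModules.YL

/-!
`p`-closed groups and subgroups, coatoms over a subgroup, and small element lemmas.
-/

set_option autoImplicit false

namespace CfsgLib.FFModules

open Subgroup

variable {G : Type*} [Group G] [Finite G] {p : ℕ} [hp : Fact p.Prime]

omit [Finite G] hp in
theorem mem_of_pow_mem_of_coprime {S : Subgroup G} {x : G} {a b : ℕ} (h : a.Coprime b)
    (ha : x ^ a ∈ S) (hb : x ^ b ∈ S) : x ∈ S := by
  have e : x = (x ^ a) ^ a.gcdA b * (x ^ b) ^ a.gcdB b := by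
    rw [← zpow_natCast, ← zpow_natCast, ← zpow_mul, ← zpow_mul, ← zpow_add, ← Nat.gcd_eq_gcd_ab,
      h.gcd_eq_one, Nat.cast_one, zpow_one]
  rw [e]
  exact mul_mem (zpow_mem ha _) (zpow_mem hb _)

theorem mem_of_pElements_of_coprimeElements {D S : Subgroup G}
    (h1 : ∀ x ∈ D, (∃ k : ℕ, x ^ p ^ k = 1) → x ∈ S)
    (h2 : ∀ x ∈ D, (orderOf x).Coprime p → x ∈ S) : D ≤ S := by
  intro x hx
  obtain ⟨k, m, hm, hkm⟩ := Nat.exists_eq_pow_mul_and_not_dvd (n := orderOf x)
    (orderOf_pos _).ne' p hp.out.ne_one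
  have hcop : m.Coprime p := ((Nat.Prime.coprime_iff_not_dvd hp.out).2 hm).symm
  refine mem_of_pow_mem_of_coprime (a := p ^ k) (b := m) (Nat.Coprime.pow_left k hcop.symm) ?_ ?_
  · refine h2 _ (pow_mem hx _) ?_
    have hpk : p ^ k ≠ 0 := pow_ne_zero _ hp.out.ne_zero
    rw [orderOf_pow_of_dvd hpk ⟨m, hkm⟩, hkm, Nat.mul_div_cancel_left _ (Nat.pos_of_ne_zero hpk)]
    exact hcop
  · refine h1 _ (pow_mem hx _) ⟨k, ?_⟩
    rw [← pow_mul, mul_comm, ← hkm, pow_orderOf_eq_one]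

theorem isPClosed_subgroup_iff {N : Subgroup G} :
    Cfsg.IsPClosed p N ↔
      ∀ P : Subgroup G, P ≤ N → IsPGroup p P → P ≤ Cfsg.pCoreOf p N := by
  constructor
  · intro h P hP hPp
    obtain ⟨S, hS⟩ := ((isPGroup_subgroupOf hP).2 hPp).exists_le_sylow
    calc P = (P.subgroupOf N).map N.subtype := (map_subgroupOf_eq_of_le hP).symm
      _ ≤ _ := map_mono (hS.trans (le_pCore (h S) S.2))
  · intro h S
    have h1 : (S : Subgroup N) ≤ Cfsg.pCore p N :=
      (map_le_map_iff_of_injective N.subtype_injective).1 (h _ (map_subtype_le _) (S.2.map _))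
    have e : (S : Subgroup N) = Cfsg.pCore p N := le_antisymm h1 (pCore_le_sylow S)
    rw [e]
    exact normal_pCore

theorem isPClosed_iff :
    Cfsg.IsPClosed p G ↔ ∀ P : Subgroup G, IsPGroup p P → P ≤ Cfsg.pCore p G := by
  constructor
  · intro h P hPp
    obtain ⟨S, hS⟩ := hPp.exists_le_sylow
    exact hS.trans (le_pCore (h S) S.2)
  · intro h S
    rw [le_antisymm (h _ S.2) (pCore_le_sylow S)]
    exact normal_pCore

theorem isPClosed_top_iff : Cfsg.IsPClosed p (⊤ : Subgroup G) ↔ Cfsg.IsPClosed p G := by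
  rw [isPClosed_subgroup_iff, isPClosed_iff, pCoreOf_top]
  exact ⟨fun h P hP => h P le_top hP, fun h P _ hP => h P hP⟩

theorem le_pCore_of_isPClosed {N P : Subgroup G} [N.Normal] (h : Cfsg.IsPClosed p N) (hPN : P ≤ N)
    (hP : IsPGroup p P) : P ≤ Cfsg.pCore p G :=
  (isPClosed_subgroup_iff.1 h P hPN hP).trans
    (pCoreOf_le_pCore_of_isSubnormal (Subgroup.Normal.isSubnormal ‹_›))

omit hp in
theorem not_isPClosed_top_of_not_le {N : Subgroup G} [N.Normal] {P : Subgroup G} (hP : IsPGroup p P)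
    (hPN : P ≤ N) (h : ¬ P ≤ Cfsg.pCore p G) [Fact p.Prime] : ¬ Cfsg.IsPClosed p N :=
  fun hc => h (le_pCore_of_isPClosed hc hPN hP)

theorem pResidual_sup_sylow (T : Sylow p G) : Cfsg.pResidual p G ⊔ (T : Subgroup G) = ⊤ := by
  have := pResidual_normal (p := p) (G := G)
  refine top_le_iff.1 ?_
  exact le_sup_of_coprime_relIndex (p := p) (D := ⊤) le_top le_top
    (by rw [normalizer_eq_top_iff.2 this]) (coprime_of_sylow_relIndex T le_top)
    fun x _ => exists_pPow_mem_pResidual x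

theorem pResidual_le_of_sup_eq_top {N P : Subgroup G} [N.Normal] (hP : IsPGroup p P)
    (h : P ⊔ N = ⊤) : Cfsg.pResidual p G ≤ N := by
  refine pResidual_le_iff.2 fun q hq => ?_
  obtain ⟨k, hk⟩ := exists_pow_mem_sup (p := p) (C := N) (D := P) (E := N)
    (by rw [normalizer_eq_top_iff.2 ‹N.Normal›]; exact le_top) le_normalizer
    (fun x hx => by
      obtain ⟨k, hk⟩ := exists_pPow_eq_one hP hx
      exact ⟨k, by rw [hk]; exact one_mem _⟩)
    (fun x hx => ⟨0, by simpa using hx⟩) (h ▸ mem_top q)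
  exact mem_of_pow_pPow_mem hq hk

omit hp in
theorem le_of_unique_coatom {Y M X : Subgroup G}
    (h : ∀ M' : Subgroup G, IsCoatom M' ∧ Y ≤ M' → M' = M) (hYX : Y ≤ X) (hX : X ≠ ⊤) : X ≤ M := by
  obtain ⟨M', hM', hle⟩ := (eq_top_or_exists_le_coatom X).resolve_left hX
  exact (h M' ⟨hM', hYX.trans hle⟩) ▸ hle

end CfsgLib.FFModules
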