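import Cfsg.Agent.Lib.FFModules.JoinSylow
import Cfsg.Agent.Lib.FFModules.PClosed

/-!
Kieler's lemma under local characteristic `p`, and point stabilisers of subnormal subgroups.
-/

set_option autoImplicit false

namespace CfsgLib.FFModules

open Subgroup
open scoped Pointwise

variable {G : Type*} [Group G] [Finite G] {p : ℕ} [hp : Fact p.Prime]

omit hp in
/-- In a group of local characteristic `p` the centraliser of an element of order `p` has
characteristic `p`. -/
theorem charP_centralizer_of_local [Fact p.Prime] (hH : Cfsg.IsOfLocalCharacteristic p G) {z : G}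
    (hz : z ≠ 1) (hzp : z ^ p = 1) :
    centralizer (zpowers z : Set G) ⊓
        centralizer (Cfsg.pCoreOf p (centralizer (zpowers z : Set G)) : Set G) ≤
      Cfsg.pCoreOf p (centralizer (zpowers z : Set G)) := by
  have hP : IsPGroup p (zpowers z) := by
    rintro ⟨_, k, rfl⟩
    refine ⟨1, Subtype.ext ?_⟩
    show (z ^ k) ^ p ^ 1 = 1
    rw [pow_one, ← zpow_natCast, ← zpow_mul, mul_comm, zpow_mul, zpow_natCast, hzp, one_zpow]
  have hne : zpowers z ≠ ⊥ := fun e => hz (zpowers_eq_bot.1 e)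
  exact charP_of_normal (L := normalizer (zpowers z : Set G)) (centralizer_le_normalizer _)
    (normalizer_le_normalizer_centralizer _) (charP_subgroup_iff.1 (hH.2 _ hP hne))

theorem charP_inf_of_isSubnormal {C B : Subgroup G} (hB : B.IsSubnormal)
    (hC : C ⊓ centralizer (Cfsg.pCoreOf p C : Set G) ≤ Cfsg.pCoreOf p C) :
    (B ⊓ C) ⊓ centralizer (Cfsg.pCoreOf p (B ⊓ C) : Set G) ≤ Cfsg.pCoreOf p (B ⊓ C) := by
  induction hB with
  | top => rwa [top_inf_eq]
  | step A B hAB _ hN ih =>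
    exact charP_of_normal (inf_le_inf_right C hAB) (le_normalizer_inf_of
      (inf_le_left.trans ((normal_subgroupOf_iff_le_normalizer hAB).1 hN))
      (inf_le_right.trans le_normalizer)) ih

/-- Kieler's lemma for a subnormal subgroup meeting `T` nontrivially. -/
theorem kieler_local (hH : Cfsg.IsOfLocalCharacteristic p G) {T L : Subgroup G} (hT : IsPGroup p T)
    (hi : (T.relIndex ⊤).Coprime p) (hL : L.IsSubnormal) :
    T ⊓ L ≠ ⊥ →
    L ⊓ centralizer ((Cfsg.omegaOne p (T ⊓ centralizer (T : Set G)) : Subgroup G) : Set G) =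
      L ⊓ centralizer
        ((Cfsg.omegaOne p ((T ⊓ L) ⊓ centralizer ((T ⊓ L : Subgroup G) : Set G)) : Subgroup G) :
          Set G) := by
  induction hL with
  | top => intro _; rw [inf_top_eq]
  | step A B hAB hB hN ih =>
    intro hne
    have hn : B ≤ normalizer (A : Set G) := (normal_subgroupOf_iff_le_normalizer hAB).1 hN
    have hih := ih (ne_bot_of_le_ne_bot hne (inf_le_inf_left T hAB))
    set ZA := Cfsg.omegaOne p ((T ⊓ A) ⊓ centralizer ((T ⊓ A : Subgroup G) : Set G)) with hZA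
    set ZB := Cfsg.omegaOne p ((T ⊓ B) ⊓ centralizer ((T ⊓ B : Subgroup G) : Set G)) with hZB
    have hTAn : T ⊓ B ≤ normalizer ((T ⊓ A : Subgroup G) : Set G) :=
      le_normalizer_inf_of (inf_le_left.trans le_normalizer) (inf_le_right.trans hn)
    -- an element of order `p` in `A` central in `T ∩ B`
    obtain ⟨z, hzA, hz1, hzc⟩ : ∃ z ∈ ZA, z ≠ 1 ∧ ∀ t ∈ T ⊓ B, Commute t z := by
      set Z₁ := (T ⊓ A) ⊓ centralizer ((T ⊓ B : Subgroup G) : Set G) with hZ₁
      obtain ⟨w, hw, hwne, hfix⟩ := exists_fixed_of_lt (A := T ⊓ B) (U := ⊥) (Z := T ⊓ A)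
        (hT.to_le inf_le_left) (bot_lt_iff_ne_bot.2 hne) (le_of_le_of_eq le_top (normalizer_eq_top_iff.2 inferInstance).symm)
        hTAn (le_of_le_of_eq le_top (normalizer_eq_top_iff.2 inferInstance).symm) fun a ha => by
          obtain ⟨k, hk⟩ := exists_pPow_eq_one hT ha.1
          exact ⟨k, by rw [hk]; exact one_mem _⟩
      have hw1 : w ≠ 1 := fun e => hwne (e ▸ one_mem _)
      obtain ⟨k, hk⟩ := (IsPGroup.iff_orderOf.1 (hT.to_le inf_le_left : IsPGroup p (T ⊓ A : Subgroup G))) ⟨w, hw⟩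
      rw [Subgroup.orderOf_mk] at hk
      have hk0 : k ≠ 0 := fun e => hw1 (orderOf_eq_one_iff.1 (by rw [hk, e, pow_zero]))
      have ho : orderOf (w ^ p ^ (k - 1)) = p := by
        rw [orderOf_pow_of_dvd (pow_ne_zero _ hp.out.ne_zero) (hk ▸ pow_dvd_pow p (by omega)), hk,
          Nat.pow_div (by omega) hp.out.pos, show k - (k - 1) = 1 by omega, pow_one]
      have hcw : ∀ t ∈ T ⊓ B, Commute t (w ^ p ^ (k - 1)) := fun t ht => by
        refine Commute.pow_right ?_ _
        have := hfix t ht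
        rw [mem_bot, inv_mul_eq_one] at this
        exact (show t * w = w * t by
          calc t * w = t * w * t⁻¹ * t := by group
            _ = w * t := by rw [← this])
      refine ⟨w ^ p ^ (k - 1), mem_omegaCenter_iff.2 ⟨pow_mem hw _,
        fun t ht => hcw t ⟨ht.1, hAB ht.2⟩, ?_⟩, fun e => ?_, hcw⟩
      · have h := pow_orderOf_eq_one (w ^ p ^ (k - 1))
        rwa [ho] at h
      · rw [e, orderOf_one] at ho
        exact hp.out.ne_one ho.symm
    have hzp : z ^ p = 1 := (mem_omegaCenter_iff.1 hzA).2.2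
    have hzB : z ∈ ZB := mem_omegaCenter_iff.2
      ⟨⟨(mem_omegaCenter_iff.1 hzA).1.1, hAB (mem_omegaCenter_iff.1 hzA).1.2⟩, hzc, hzp⟩
    set C := centralizer (zpowers z : Set G) with hC
    have hTC : T ⊓ B ≤ C := fun t ht => by
      rintro _ ⟨j, rfl⟩
      exact ((hzc t ht).zpow_right j).eq.symm
    have hcen : ∀ W : Subgroup G, z ∈ W → centralizer (W : Set G) ≤ C := fun W hW =>
      centralizer_le (show (zpowers z : Set G) ⊆ W from zpowers_le.2 hW)
    have h := kieler_normal (X := B ⊓ C) (T := T ⊓ B) (L := A ⊓ C) (le_inf inf_le_right hTC)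
      (hT.to_le inf_le_left)
      (coprime_relIndex_of_le (le_inf inf_le_right hTC) inf_le_left
        (coprime_relIndex_inf_of_isSubnormal hi hB))
      (charP_inf_of_isSubnormal hB (charP_centralizer_of_local hH hz1 hzp)) (inf_le_inf_right C hAB)
      (le_normalizer_inf_of (inf_le_left.trans hn) (inf_le_right.trans le_normalizer))
    have e : (T ⊓ B) ⊓ (A ⊓ C) = T ⊓ A := le_antisymm (le_inf (inf_le_left.trans inf_le_left)
      (inf_le_right.trans inf_le_left))
      (le_inf (inf_le_inf_left T hAB) (le_inf inf_le_right ((inf_le_inf_left T hAB).trans hTC)))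
    rw [e, ← hZA, ← hZB, inf_assoc, inf_assoc, inf_eq_right.2 (hcen ZA hzA),
      inf_eq_right.2 (hcen ZB hzB)] at h
    calc A ⊓ centralizer ((Cfsg.omegaOne p (T ⊓ centralizer (T : Set G)) : Subgroup G) : Set G)
        = A ⊓ (B ⊓ centralizer
            ((Cfsg.omegaOne p (T ⊓ centralizer (T : Set G)) : Subgroup G) : Set G)) := by
          rw [← inf_assoc, inf_eq_left.2 hAB]
      _ = A ⊓ (B ⊓ centralizer (ZB : Set G)) := by rw [hih]
      _ = A ⊓ centralizer (ZA : Set G) := by rw [← inf_assoc, inf_eq_left.2 hAB, h]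

/-- The point stabiliser of a subnormal subgroup. -/
theorem pointStabilizer_eq (hH : Cfsg.IsOfLocalCharacteristic p G) {T L : Subgroup G}
    (hT : IsPGroup p T) (hi : (T.relIndex ⊤).Coprime p) (hL : L.IsSubnormal) :
    Cfsg.pointStabilizer p L (T ⊓ L) = Cfsg.pElementClosure p (L ⊓ centralizer
      ((Cfsg.omegaOne p (T ⊓ centralizer (T : Set G)) : Subgroup G) : Set G)) := by
  by_cases hne : T ⊓ L = ⊥
  · have hc : (Nat.card L).Coprime p := by
      have := coprime_relIndex_inf_of_isSubnormal hi hL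
      rwa [hne, relIndex_bot_left] at this
    have hone : ∀ x ∈ L, (∃ k : ℕ, orderOf x = p ^ k) → x = 1 := by
      rintro x hx ⟨k, hk⟩
      refine eq_one_of_pow_eq_one_of_coprime (hk ▸ pow_orderOf_eq_one x) hc ?_
      exact congrArg Subtype.val (pow_card_eq_one' (x := (⟨x, hx⟩ : L)))
    have hbot : ∀ K : Subgroup G, K ≤ L →
        Subgroup.closure {x : G | x ∈ K ∧ ∃ k : ℕ, orderOf x = p ^ k} = ⊥ := fun K hK =>
      closure_eq_bot_iff.2 fun x hx => hone x (hK hx.1) hx.2
    exact (hbot _ inf_le_left).trans (hbot _ inf_le_left).symm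
  · rw [kieler_local hH hT hi hL hne]
    rfl

omit [Finite G] in
theorem le_pElementClosure {K P : Subgroup G} (hPK : P ≤ K) (hP : IsPGroup p P) :
    P ≤ Cfsg.pElementClosure p K := fun x hx => subset_closure ⟨hPK hx, by
  obtain ⟨k, hk⟩ := IsPGroup.iff_orderOf.1 hP ⟨x, hx⟩
  exact ⟨k, by rwa [Subgroup.orderOf_mk] at hk⟩⟩

omit [Finite G] hp in
theorem pElementClosure_mono {H K : Subgroup G} (h : H ≤ K) :
    Cfsg.pElementClosure p H ≤ Cfsg.pElementClosure p K :=
  closure_mono fun _ hx => ⟨h hx.1, hx.2⟩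

omit [Finite G] hp in
theorem pElementClosure_le (K : Subgroup G) : Cfsg.pElementClosure p K ≤ K :=
  (closure_le _).2 fun _ hx => hx.1

omit hp in
theorem le_normalizer_pElementClosure (K : Subgroup G) :
    normalizer (K : Set G) ≤ normalizer (Cfsg.pElementClosure p K : Set G) := by
  refine le_normalizer_of_conj_le fun g hg => ?_
  show (Subgroup.closure _).map _ ≤ _
  rw [MonoidHom.map_closure]
  refine closure_mono ?_
  rintro _ ⟨x, ⟨hx, k, hk⟩, rfl⟩
  exact ⟨(Subgroup.mem_normalizer_iff.1 hg x).1 hx, k,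
    by rw [orderOf_injective (MulAut.conj g).toMonoidHom (MulAut.conj g).injective]; exact hk⟩

omit [Finite G] hp in
/-- A subnormal subgroup of index prime to `p` in an overgroup contains its `p`-elements. -/
theorem mem_of_isSubnormal_of_coprime_relIndex {W D : Subgroup G} (hW : W.IsSubnormal) (hWD : W ≤ D)
    (hi : (W.relIndex D).Coprime p) {x : G} (hx : x ∈ D) {k : ℕ} (hxp : x ^ p ^ k = 1) : x ∈ W := by
  suffices ∀ S : Subgroup G, S.IsSubnormal → W ≤ S → x ∈ S from this W hW le_rfl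
  intro S hS
  induction hS with
  | top => exact fun _ => mem_top x
  | step S B hSB _ hN ih =>
    intro hWS
    have hxB := ih (hWS.trans hSB)
    have hn : B ≤ normalizer (S : Set G) := (normal_subgroupOf_iff_le_normalizer hSB).1 hN
    have : ((S ⊓ D).subgroupOf (B ⊓ D)).Normal := normal_subgroupOf_of_le_normalizer
      (le_normalizer_inf_of (inf_le_left.trans hn) (inf_le_right.trans le_normalizer))
    have hmem : x ^ (S ⊓ D).relIndex (B ⊓ D) ∈ S ⊓ D :=
      ((S ⊓ D).subgroupOf (B ⊓ D)).pow_index_mem ⟨x, hxB, hx⟩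
    have hdvd : (S ⊓ D).relIndex (B ⊓ D) ∣ W.relIndex D := by
      refine (relIndex_dvd_of_le_left _ (le_inf hWS hWD)).trans ?_
      exact Dvd.intro _ (relIndex_mul_relIndex W (B ⊓ D) D (le_inf (hWS.trans hSB) hWD) inf_le_right)
    exact mem_of_pow_mem_of_coprime (a := p ^ k) (b := (S ⊓ D).relIndex (B ⊓ D))
      (Nat.Coprime.pow_left k (Nat.Coprime.coprime_dvd_left hdvd hi).symm)
      (hxp.symm ▸ one_mem S) hmem.1

theorem pointStabilizer_sup (hH : Cfsg.IsOfLocalCharacteristic p G) {T L₁ L₂ : Subgroup G}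
    (hT : IsPGroup p T) (hi : (T.relIndex ⊤).Coprime p) (h₁ : L₁.IsSubnormal)
    (h₂ : L₂.IsSubnormal) :
    Cfsg.pointStabilizer p (L₁ ⊔ L₂) (T ⊓ (L₁ ⊔ L₂)) =
      Cfsg.pointStabilizer p L₁ (T ⊓ L₁) ⊔ Cfsg.pointStabilizer p L₂ (T ⊓ L₂) := by
  have hL := CfsgLib.Subnormal.isSubnormal_sup h₁ h₂
  rw [pointStabilizer_eq hH hT hi hL, pointStabilizer_eq hH hT hi h₁, pointStabilizer_eq hH hT hi h₂]
  set Y := centralizer ((Cfsg.omegaOne p (T ⊓ centralizer (T : Set G)) : Subgroup G) : Set G) with hY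
  have hTY : T ≤ Y := fun t ht z hz => ((mem_omegaCenter_iff.1 hz).2.1 t ht).symm
  refine le_antisymm ?_ (sup_le (pElementClosure_mono (inf_le_inf_right _ le_sup_left))
    (pElementClosure_mono (inf_le_inf_right _ le_sup_right)))
  set P₁ := Cfsg.pElementClosure p (L₁ ⊓ Y) with hP₁
  set P₂ := Cfsg.pElementClosure p (L₂ ⊓ Y) with hP₂
  have hsn : ∀ L : Subgroup G, L.IsSubnormal →
      ((Cfsg.pElementClosure p (L ⊓ Y)).subgroupOf Y).IsSubnormal := fun L hL =>
    CfsgLib.Subnormal.isSubnormal_subgroupOf_trans (pElementClosure_le _) inf_le_right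
      (normal_subgroupOf_of_le_normalizer
        (le_normalizer.trans (le_normalizer_pElementClosure _))).isSubnormal
      (by rw [inf_subgroupOf_right]; exact hL.subgroupOf)
  have hP₁Y : P₁ ≤ Y := (pElementClosure_le _).trans inf_le_right
  have hP₂Y : P₂ ≤ Y := (pElementClosure_le _).trans inf_le_right
  have hW : ((P₁ ⊔ P₂).subgroupOf Y).IsSubnormal := by
    rw [subgroupOf_sup hP₁Y hP₂Y]
    exact CfsgLib.Subnormal.isSubnormal_sup (hsn L₁ h₁) (hsn L₂ h₂)
  have hWD : P₁ ⊔ P₂ ≤ (L₁ ⊔ L₂) ⊓ Y :=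
    sup_le ((pElementClosure_le _).trans (inf_le_inf_right _ le_sup_left))
      ((pElementClosure_le _).trans (inf_le_inf_right _ le_sup_right))
  have hTW : (L₁ ⊔ L₂) ⊓ T ≤ P₁ ⊔ P₂ := by
    rw [inf_sup_eq_of_isSubnormal hT hi h₁ h₂]
    exact sup_le_sup
      (le_pElementClosure (le_inf inf_le_left (inf_le_right.trans hTY)) (hT.to_le inf_le_right))
      (le_pElementClosure (le_inf inf_le_left (inf_le_right.trans hTY)) (hT.to_le inf_le_right))
  have hiW : ((P₁ ⊔ P₂).relIndex ((L₁ ⊔ L₂) ⊓ Y)).Coprime p := by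
    have h0 := coprime_relIndex_inf_of_isSubnormal hi hL
    rw [inf_comm] at h0
    exact Nat.Coprime.coprime_dvd_left (relIndex_dvd_of_le_left _ hTW)
      (coprime_relIndex_of_le (le_inf inf_le_left (inf_le_right.trans hTY)) inf_le_left h0)
  refine (closure_le _).2 ?_
  rintro x ⟨hx, k, hk⟩
  have := mem_of_isSubnormal_of_coprime_relIndex (p := p) (D := ((L₁ ⊔ L₂) ⊓ Y).subgroupOf Y) hW
    (comap_mono hWD) (by rwa [relIndex_subgroupOf inf_le_right]) (x := ⟨x, hx.2⟩) hx (k := k)
    (Subtype.ext (show x ^ p ^ k = 1 from hk ▸ pow_orderOf_eq_one x))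
  exact this

end CfsgLib.FFModules
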