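import Cfsg.Agent.Lib.FFModules.Kieler
import Cfsg.Agent.Lib.CoprimeAction.Basic
import Cfsg.Agent.Lib.Subnormal.Basic

/-!
Subnormal closures and `O^p` of subnormal subgroups.
-/

set_option autoImplicit false

namespace CfsgLib.FFModules

open Subgroup
open scoped commutatorElement Pointwise

variable {G : Type*} [Group G] [Finite G] {p : ℕ} [hp : Fact p.Prime]

omit hp in
theorem subnormalClosure_spec (A : Subgroup G) :
    A ≤ Cfsg.subnormalClosure A ∧ (Cfsg.subnormalClosure A).IsSubnormal ∧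
      ∀ K : Subgroup G, A ≤ K → K.IsSubnormal → Cfsg.subnormalClosure A ≤ K := by
  set S := {K : Subgroup G | A ≤ K ∧ K.IsSubnormal}
  obtain ⟨M, hM, hmin⟩ := (Set.toFinite S).exists_minimal ⟨⊤, le_top, IsSubnormal.top⟩
  have e : sInf S = M := le_antisymm (sInf_le hM) (le_sInf fun K hK =>
    (hmin (⟨le_inf hM.1 hK.1, hM.2.inf hK.2⟩ : M ⊓ K ∈ S) inf_le_left).trans inf_le_right)
  have e' : Cfsg.subnormalClosure A = M := e
  rw [e']
  exact ⟨hM.1, hM.2, fun K h1 h2 => e ▸ sInf_le ⟨h1, h2⟩⟩

/-- A subnormal subgroup with a normal `p`-subgroup supplement contains all `p'`-elements. -/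
theorem mem_of_isSubnormal_of_mem_sup {B P : Subgroup G} (hB : B.IsSubnormal) (hP : IsPGroup p P)
    (hBP : B ≤ normalizer (P : Set G)) {q : G} (hq : q ∈ B ⊔ P) (hqp : (orderOf q).Coprime p) :
    q ∈ B := by
  suffices ∀ S : Subgroup G, S.IsSubnormal → B ≤ S → q ∈ S from this B hB le_rfl
  intro S hS
  induction hS with
  | top => exact fun _ => mem_top q
  | step S T hST _ hN ih =>
    intro hBS
    have hqT := ih (hBS.trans hST)
    have hq' : q ∈ (B : Set G) * (P : Set G) := by
      rw [← coe_mul_of_left_le_normalizer_right B P hBP]; exact hq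
    obtain ⟨b, hb, c, hc, rfl⟩ := Set.mem_mul.1 hq'
    have hcT : c ∈ T := by simpa using mul_mem (inv_mem (hST (hBS hb))) hqT
    obtain ⟨k, hk⟩ := exists_pow_mem_sup (p := p) (C := S) (D := B) (E := P ⊓ T)
      (le_normalizer_inf_of hBP ((hBS.trans hST).trans le_normalizer))
      (inf_le_right.trans ((normal_subgroupOf_iff_le_normalizer hST).1 hN))
      (fun x hx => ⟨0, by simpa using hBS hx⟩)
      (fun x hx => by
        obtain ⟨k, hk⟩ := exists_pPow_eq_one hP hx.1
        exact ⟨k, by rw [hk]; exact one_mem _⟩)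
      (mul_mem (mem_sup_left hb) (mem_sup_right (⟨hc, hcT⟩ : c ∈ P ⊓ T)))
    exact mem_of_pow_pPow_mem hqp hk

/-- A subgroup containing `O^p(K)` is subnormal in `K`. -/
theorem isSubnormal_of_pResidual_le {X : Subgroup G} (h : Cfsg.pResidual p G ≤ X) :
    X.IsSubnormal := by
  have : (Cfsg.pResidual p G).Normal := pResidual_normal
  have hnil : Group.IsNilpotent (G ⧸ Cfsg.pResidual p G) :=
    (isPGroup_quotient_pResidual (p := p) (G := G)).isNilpotent
  have hs := (CfsgLib.Subnormal.isSubnormal_of_isNilpotent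
    (X.map (QuotientGroup.mk' (Cfsg.pResidual p G)))).comap (QuotientGroup.mk' (Cfsg.pResidual p G))
  rwa [comap_map_eq, QuotientGroup.ker_mk', sup_eq_left.2 h] at hs

end CfsgLib.FFModules
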