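import Cfsg.Agent.Lib.FFModules.Kieler
import Cfsg.Agent.Lib.CoprimeAction.Basic

/-!
Weakly closed and large `p`-subgroups.
-/

set_option autoImplicit false

namespace CfsgLib.FFModules

open Subgroup
open scoped commutatorElement Pointwise

variable {G : Type*} [Group G] [Finite G] {p : ℕ} [hp : Fact p.Prime]

/-- A `p`-subgroup of `C` is conjugate in `C` into a given one of index prime to `p`. -/
theorem exists_conj_le {P T C : Subgroup G} (hPC : P ≤ C) (hTC : T ≤ C) (hP : IsPGroup p P)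
    (hT : IsPGroup p T) (hi : (T.relIndex C).Coprime p) :
    ∃ c ∈ C, P.map (MulAut.conj c).toMonoidHom ≤ T := by
  obtain ⟨S, hS⟩ := ((isPGroup_subgroupOf hPC).2 hP).exists_le_sylow
  obtain ⟨h1, h2, h3⟩ := sylow_map_props C S
  obtain ⟨c, hc, e⟩ := exists_conj_eq h1 hTC h2 hT h3 hi
  refine ⟨c, hc, e ▸ map_mono ?_⟩
  calc P = (P.subgroupOf C).map C.subtype := (map_subgroupOf_eq_of_le hPC).symm
    _ ≤ _ := map_mono hS

theorem conj_le_of_le {Q X : Subgroup G} {g : G} (h : Q ≤ X) (hg : g ∈ normalizer (X : Set G)) :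
    Q.map (MulAut.conj g).toMonoidHom ≤ X :=
  (map_mono h).trans (map_conj_eq_self hg).le

/-- Two conjugates of a weakly closed subgroup in a `p`-subgroup are equal. -/
theorem wc_conj_eq {Q R : Subgroup G} (hwc : Cfsg.IsWeaklyClosedSubgroup p Q) (hR : IsPGroup p R)
    {g h : G} (hg : Q.map (MulAut.conj g).toMonoidHom ≤ R)
    (hh : Q.map (MulAut.conj h).toMonoidHom ≤ R) :
    Q.map (MulAut.conj g).toMonoidHom = Q.map (MulAut.conj h).toMonoidHom := by
  obtain ⟨T, hQT, huniq⟩ := hwc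
  obtain ⟨c, -, hc⟩ := exists_conj_le (C := (⊤ : Subgroup G)) le_top le_top hR T.2
    (coprime_of_sylow_relIndex T le_top)
  have key : ∀ x : G, Q.map (MulAut.conj x).toMonoidHom ≤ R →
      Q.map (MulAut.conj (c * x)).toMonoidHom = Q := fun x hx => huniq (c * x) (by
    rw [map_conj_mul]; exact (map_mono hx).trans hc)
  have h2 := (key g hg).trans (key h hh).symm
  rw [map_conj_mul, map_conj_mul] at h2
  exact map_injective (MulAut.conj c).injective h2

theorem wc_isPGroup {Q : Subgroup G} (hwc : Cfsg.IsWeaklyClosedSubgroup p Q) : IsPGroup p Q := by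
  obtain ⟨T, hQT, -⟩ := hwc
  exact T.2.to_le hQT

theorem wc_eq_of_le {Q R : Subgroup G} (hwc : Cfsg.IsWeaklyClosedSubgroup p Q) (hR : IsPGroup p R)
    (hQR : Q ≤ R) {g : G} (hg : Q.map (MulAut.conj g).toMonoidHom ≤ R) :
    Q.map (MulAut.conj g).toMonoidHom = Q :=
  (wc_conj_eq hwc hR hg (h := 1) (by rwa [map_conj_one])).trans (map_conj_one Q)

theorem wc_normalizer_le {Q R : Subgroup G} (hwc : Cfsg.IsWeaklyClosedSubgroup p Q)
    (hR : IsPGroup p R) (hQR : Q ≤ R) : normalizer (R : Set G) ≤ normalizer (Q : Set G) :=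
  fun _ hx => mem_normalizer_of_map_conj_eq (wc_eq_of_le hwc hR hQR (conj_le_of_le hQR hx))

theorem wc_pGroup_le_normalizer {Q R : Subgroup G} (hwc : Cfsg.IsWeaklyClosedSubgroup p Q)
    (hR : IsPGroup p R) (hQR : Q ≤ R) : R ≤ normalizer (Q : Set G) :=
  le_normalizer.trans (wc_normalizer_le hwc hR hQR)

/-- Conjugates of `Q` inside a subgroup containing `Q` are conjugate there. -/
theorem wc_exists_conj {Q K : Subgroup G} (hwc : Cfsg.IsWeaklyClosedSubgroup p Q) (hQK : Q ≤ K)
    {g : G} (hg : Q.map (MulAut.conj g).toMonoidHom ≤ K) :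
    ∃ k ∈ K, Q.map (MulAut.conj g).toMonoidHom = Q.map (MulAut.conj k).toMonoidHom := by
  obtain ⟨S, hS⟩ := ((isPGroup_subgroupOf hQK).2 (wc_isPGroup hwc)).exists_le_sylow
  obtain ⟨h1, h2, h3⟩ := sylow_map_props K S
  have hQS : Q ≤ (S : Subgroup K).map K.subtype := by
    conv_lhs => rw [← map_subgroupOf_eq_of_le hQK]
    exact map_mono hS
  obtain ⟨c, hc, hcS⟩ := exists_conj_le hg h1 ((wc_isPGroup hwc).map _) h2 h3
  rw [← map_conj_mul] at hcS
  refine ⟨c⁻¹, inv_mem hc, ?_⟩
  conv_rhs => rw [← wc_eq_of_le hwc h2 hQS hcS]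
  rw [← map_conj_mul, inv_mul_cancel_left]

/-- A weakly closed subgroup is weakly closed in every subgroup containing it. -/
theorem wc_subgroupOf {Q K : Subgroup G} (hwc : Cfsg.IsWeaklyClosedSubgroup p Q) (hQK : Q ≤ K) :
    Cfsg.IsWeaklyClosedSubgroup p (Q.subgroupOf K) := by
  obtain ⟨S, hS⟩ := ((isPGroup_subgroupOf hQK).2 (wc_isPGroup hwc)).exists_le_sylow
  refine ⟨S, hS, fun k hk => ?_⟩
  have e : ∀ k : K, ((Q.subgroupOf K).map (MulAut.conj k).toMonoidHom).map K.subtype =
      Q.map (MulAut.conj (k : G)).toMonoidHom := by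
    intro k
    conv_rhs => rw [← map_subgroupOf_eq_of_le hQK, map_map]
    rw [map_map]
    rfl
  have hQS : Q ≤ (S : Subgroup K).map K.subtype := by
    conv_lhs => rw [← map_subgroupOf_eq_of_le hQK]
    exact map_mono hS
  apply map_injective K.subtype_injective
  rw [e, map_subgroupOf_eq_of_le hQK]
  exact wc_eq_of_le hwc (sylow_map_props K S).2.1 hQS (by rw [← e]; exact map_mono hk)

/-- Every conjugate of `Q` lies in every subnormal subgroup containing `Q`. -/
theorem wc_conj_le_of_isSubnormal {Q S : Subgroup G} (hwc : Cfsg.IsWeaklyClosedSubgroup p Q)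
    (hS : S.IsSubnormal) (hQS : Q ≤ S) (g : G) : Q.map (MulAut.conj g).toMonoidHom ≤ S := by
  induction hS with
  | top => exact le_top
  | step A B hAB _ hN ih =>
    obtain ⟨b, hb, e⟩ := wc_exists_conj hwc (hQS.trans hAB) (ih (hQS.trans hAB))
    rw [e]
    exact conj_le_of_le hQS ((normal_subgroupOf_iff_le_normalizer hAB).1 hN hb)

theorem le_weakClosure {Q L : Subgroup G} {g : G} (h : Q.map (MulAut.conj g).toMonoidHom ≤ L) :
    Q.map (MulAut.conj g).toMonoidHom ≤ Cfsg.weakClosure Q L :=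
  le_iSup (fun g : {g : G // Q.map (MulAut.conj g).toMonoidHom ≤ L} =>
    Q.map (MulAut.conj (g : G)).toMonoidHom) ⟨g, h⟩

omit [Finite G] in
theorem weakClosure_le (Q L : Subgroup G) : Cfsg.weakClosure Q L ≤ L :=
  iSup_le fun g => g.2

theorem le_normalizer_weakClosure (Q L : Subgroup G) :
    L ≤ normalizer (Cfsg.weakClosure Q L : Set G) := by
  refine le_normalizer_of_conj_le fun l hl => ?_
  rw [Cfsg.weakClosure, Subgroup.map_iSup]
  refine iSup_le fun g => ?_
  rw [← map_conj_mul]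
  exact le_weakClosure (by rw [map_conj_mul]; exact conj_le_of_le g.2 (le_normalizer hl))

theorem wc_weakClosure_eq {Q K : Subgroup G} (hwc : Cfsg.IsWeaklyClosedSubgroup p Q) (hQK : Q ≤ K) :
    Cfsg.weakClosure Q K = ⨆ k : K, Q.map (MulAut.conj (k : G)).toMonoidHom := by
  refine le_antisymm (iSup_le fun g => ?_) (iSup_le fun k => ?_)
  · obtain ⟨k, hk, e⟩ := wc_exists_conj hwc hQK g.2
    rw [e]
    exact le_iSup (fun k : K => Q.map (MulAut.conj (k : G)).toMonoidHom) ⟨k, hk⟩
  · exact le_weakClosure (conj_le_of_le hQK (le_normalizer k.2))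

/-- A subgroup normalised by `Q` with the commutator condition on every `p`-overgroup. -/
theorem wc_of_normalizer_le {Q : Subgroup G} (hQ : IsPGroup p Q)
    (h : ∀ R : Subgroup G, IsPGroup p R → Q ≤ R → normalizer (R : Set G) ≤ normalizer (Q : Set G)) :
    Cfsg.IsWeaklyClosedSubgroup p Q := by
  obtain ⟨T, hQT⟩ := hQ.exists_le_sylow
  refine ⟨T, hQT, fun g hg => ?_⟩
  set Q' := Q.map (MulAut.conj g).toMonoidHom with hQ'
  -- transport the hypothesis to `Q'`
  have h' : ∀ R : Subgroup G, IsPGroup p R → Q' ≤ R → normalizer (R : Set G) ≤ normalizer (Q' : Set G) := by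
    intro R hR hQR n hn
    set R' := R.map (MulAut.conj g⁻¹).toMonoidHom with hR'
    have hn' : g⁻¹ * n * g ∈ normalizer (R' : Set G) := by
      refine mem_normalizer_of_map_conj_eq ?_
      rw [hR', ← map_conj_mul, show g⁻¹ * n * g * g⁻¹ = g⁻¹ * n by group, map_conj_mul,
        map_conj_eq_self hn]
    have h2 := map_conj_eq_self (h R' (hR.map _) (map_conj_le_iff.1 hQR) hn')
    refine mem_normalizer_of_map_conj_eq ?_
    conv_rhs => rw [hQ', ← h2, ← map_conj_mul, show g * (g⁻¹ * n * g) = n * g by group]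
    rw [hQ', ← map_conj_mul]
  set T' := (T : Subgroup G).map (MulAut.conj g).toMonoidHom with hT'
  have hT'p : IsPGroup p T' := T.2.map _
  have hTn : (T : Subgroup G) ≤ normalizer (Q' : Set G) := le_normalizer.trans (h' _ T.2 hg)
  have hT'n : T' ≤ normalizer (Q' : Set G) :=
    le_normalizer.trans (h' _ hT'p (map_mono hQT))
  have hi : ((T : Subgroup G).relIndex (normalizer (Q' : Set G))).Coprime p :=
    coprime_of_sylow_relIndex T hTn
  obtain ⟨n, hn, hle⟩ := exists_conj_le hT'n hTn hT'p T.2 hi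
  rw [hT', ← map_conj_mul] at hle
  have he : (T : Subgroup G).map (MulAut.conj (n * g)).toMonoidHom = T :=
    Subgroup.eq_of_le_of_card_ge hle (by rw [card_map_conj])
  have h2 := map_conj_eq_self (h _ T.2 hQT (mem_normalizer_of_map_conj_eq he))
  rw [map_conj_mul, map_conj_eq_self hn] at h2
  exact h2

/-- A nontrivial fixed point of a `p`-group acting on a nontrivial `p`-group. -/
theorem exists_ne_one_fixed {A Y : Subgroup G} (hA : IsPGroup p A) (hY : IsPGroup p Y) (hY1 : Y ≠ ⊥)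
    (hAY : A ≤ normalizer (Y : Set G)) :
    ∃ y ∈ Y, y ≠ 1 ∧ ∀ a ∈ A, Commute a y := by
  obtain ⟨w, hw, hw1, hfix⟩ := exists_fixed_of_lt (A := A) (U := ⊥) hY
    (bot_lt_iff_ne_bot.2 hY1)
    (by rw [normalizer_eq_top_iff.2 normal_bot]; exact le_top) hAY
    (by rw [normalizer_eq_top_iff.2 normal_bot]; exact le_top) fun a ha => by
      obtain ⟨k, hk⟩ := exists_pPow_eq_one hA ha
      exact ⟨k, by rw [hk]; exact one_mem _⟩
  refine ⟨w, hw, fun h => hw1 (mem_bot.2 h), fun a ha => ?_⟩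
  have h := mem_bot.1 (hfix a ha)
  exact mul_inv_eq_iff_eq_mul.1 (inv_mul_eq_one.1 h).symm

/-- A nontrivial large `p`-subgroup is weakly closed. -/
theorem wc_of_isLarge {Q : Subgroup G} (hQ : IsPGroup p Q) (hQ1 : Q ≠ ⊥) (hL : Cfsg.IsLarge Q) :
    Cfsg.IsWeaklyClosedSubgroup p Q := by
  refine wc_of_normalizer_le hQ fun R hR hQR => ?_
  set U := R ⊓ centralizer (R : Set G) with hU
  obtain ⟨z, hz, hz1, hzc⟩ := exists_ne_one_fixed hR hR
    (fun h => hQ1 (le_bot_iff.1 (h ▸ hQR))) le_normalizer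
  refine le_trans (le_normalizer_inf_of le_rfl (normalizer_le_normalizer_centralizer R))
    (hL.2 U (inf_le_right.trans (centralizer_le hQR)) fun h => hz1 ?_)
  exact mem_bot.1 (h ▸ (⟨hz, fun a ha => hzc a ha⟩ : z ∈ U))

end CfsgLib.FFModules
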